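import Cfsg.Agent.CharactersDeep.PrimeIndex
import Cfsg.Agent.CharDeep.PowerDegrees
import Cfsg.Agent.Characters.Clifford

/-!
# Irreducible characters of a normal subgroup of index two

`dich` : an irreducible character `χ` of a normal subgroup `N` of index 2 extends to the group, or some irreducible
character of the group vanishes off `N` and is `χ + χ ^ g` on `N`.
-/

set_option autoImplicit false

open scoped ComplexConjugate
open Cfsg Cfsg.Agent.Characters.Core Cfsg.Agent.Characters.Clifford

namespace Cfsg.Agent.H348.PPD.Dich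

universe u

variable {G : Type u} [Group G] [Finite G]

/-- An irreducible character of norm two on a normal subgroup of index two vanishes off the subgroup. -/
theorem vanish_of_norm [Fintype G] (N : Subgroup G) [N.Normal] [Fintype N] (h2 : N.index = 2) {ψ : G → ℂ}
    (hψ : IsIrrCharacter G ψ) (h : classInner (fun n : N => ψ n) (fun n : N => ψ n) = 2) :
    ∀ g ∉ N, ψ g = 0 := by
  classical
  have h1 := classInner_irr_self hψ
  rw [classInner_def] at h h1
  have hN : (Nat.card N : ℂ) ≠ 0 := by exact_mod_cast Nat.card_pos.ne'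
  have hG : (Nat.card G : ℂ) ≠ 0 := by exact_mod_cast Nat.card_pos.ne'
  have hc : (Nat.card G : ℂ) = 2 * Nat.card N := by
    have := Subgroup.card_mul_index N
    rw [h2] at this
    exact_mod_cast (by omega : Nat.card G = 2 * Nat.card N)
  have e1 : ∑ g : G, ψ g * conj (ψ g) = Nat.card G := by
    field_simp at h1
    linear_combination h1
  have e2 : ∑ n : N, ψ n * conj (ψ n) = 2 * Nat.card N := by
    field_simp at h
    linear_combination h
  have e3 : ∑ g : G, (if g ∈ N then 0 else ψ g * conj (ψ g)) = 0 := by
    have e4 : ∑ g : G, (if g ∈ N then ψ g * conj (ψ g) else 0) = ∑ n : N, ψ n * conj (ψ n) := by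
      rw [← Finset.sum_filter]
      exact (Finset.sum_subtype (Finset.univ.filter (· ∈ N)) (by simp) (fun g => ψ g * conj (ψ g)))
    have e5 : ∑ g : G, ψ g * conj (ψ g) = ∑ g : G, (if g ∈ N then ψ g * conj (ψ g) else 0) +
        ∑ g : G, (if g ∈ N then 0 else ψ g * conj (ψ g)) := by
      rw [← Finset.sum_add_distrib]
      refine Finset.sum_congr rfl fun g _ => ?_
      split_ifs <;> ring
    rw [e1, e4, e2, hc] at e5
    linear_combination -e5
  have e6 : ∑ g : G, (if g ∈ N then (0 : ℝ) else Complex.normSq (ψ g)) = 0 := by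
    have : ((∑ g : G, (if g ∈ N then (0 : ℝ) else Complex.normSq (ψ g)) : ℝ) : ℂ) = 0 := by
      rw [← e3, Complex.ofReal_sum]
      refine Finset.sum_congr rfl fun g _ => ?_
      split_ifs
      · simp
      · rw [Complex.mul_conj]
    exact_mod_cast this
  intro g hg
  have e7 := (Finset.sum_eq_zero_iff_of_nonneg (fun g _ => by
    split_ifs
    · exact le_rfl
    · exact Complex.normSq_nonneg _)).1 e6 g (Finset.mem_univ _)
  rw [if_neg hg] at e7
  exact Complex.normSq_eq_zero.1 e7

theorem conjNormal_of_mem {N : Subgroup G} [N.Normal] {χ : N → ℂ} (hχ : IsClassFunction N χ) {h : G} (hh : h ∈ N)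
    (n : N) : χ ((MulAut.conjNormal h : MulAut N) n) = χ n := by
  have : (MulAut.conjNormal h : MulAut N) n = (⟨h, hh⟩ : N) * n * (⟨h, hh⟩ : N)⁻¹ := by
    ext
    simp
  rw [this, hχ]

/-- **Dichotomy** for a normal subgroup of index two. -/
theorem dich (N : Subgroup G) [N.Normal] (h2 : N.index = 2) {χ : N → ℂ} (hχ : IsIrrCharacter N χ) :
    (∃ ψ : G → ℂ, IsIrrCharacter G ψ ∧ ∀ n : N, ψ n = χ n) ∨
    ∃ ψ : G → ℂ, IsIrrCharacter G ψ ∧ (∀ g ∉ N, ψ g = 0) ∧
      ∀ g ∉ N, (∀ n : N, ψ n = χ n + χ ((MulAut.conjNormal g : MulAut N) n)) ∧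
        χ ∘ (MulAut.conjNormal g : MulAut N) ≠ χ := by
  classical
  have := Fintype.ofFinite G
  have := Fintype.ofFinite N
  have := finite_irr (G := N)
  have := Fintype.ofFinite (IrrCharacter N)
  obtain ⟨ψ, hψ, hne⟩ := Cfsg.Agent.CharDeep.PowerDegrees.exists_irr_over N hχ
  have hψN := isCharacter_restrict N (isIrr_isCharacter hψ)
  rcases Cfsg.Agent.CharactersDeep.PrimeIndex.norm_restrict_prime_index N Nat.prime_two h2 hψ with h | h
  · left
    have hirr := isIrr_of_classInner_self hψN h
    have heq : (fun n : N => ψ n) = χ := by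
      by_contra hcon
      exact hne (classInner_irr_ne hirr hχ hcon)
    exact ⟨ψ, hψ, fun n => congrFun heq n⟩
  · right
    refine ⟨ψ, hψ, vanish_of_norm N h2 hψ (by simpa using h), fun g hg => ?_⟩
    obtain ⟨m, hm⟩ := exists_nat_comb hψN
    have hcoef : ∀ η : IrrCharacter N, classInner (fun n : N => ψ n) (η : N → ℂ) = m η := fun η => by
      rw [hm, classInner_sum_nsmul_irr]
    have hsq : ∑ η : IrrCharacter N, m η ^ 2 = 2 := by
      have h1 := classInner_sum_smul_sum_smul (G := N) (fun η => (m η : ℂ)) (fun η => (m η : ℂ))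
      simp only [Nat.cast_smul_eq_nsmul] at h1
      rw [← hm, h] at h1
      have h3 : ((∑ η : IrrCharacter N, m η ^ 2 : ℕ) : ℂ) = ((2 : ℕ) : ℂ) := by
        rw [h1]
        push_cast
        refine Finset.sum_congr rfl fun η _ => ?_
        rw [Complex.conj_natCast, sq]
      exact_mod_cast h3
    set χ' : N → ℂ := χ ∘ (MulAut.conjNormal g : MulAut N) with hχ'
    have hχ'irr : IsIrrCharacter N χ' := isIrr_conjNormal hχ g
    have hχ'c : classInner (fun n : N => ψ n) χ' = classInner (fun n : N => ψ n) χ :=
      classInner_restrict_conjNormal (isIrr_isClassFunction hψ) χ g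
    let a : IrrCharacter N := ⟨χ, hχ⟩
    let b : IrrCharacter N := ⟨χ', hχ'irr⟩
    have hma : m a ≠ 0 := by
      intro h0
      apply hne
      rw [show χ = (a : N → ℂ) from rfl, hcoef a, h0, Nat.cast_zero]
    have hmb : m b = m a := by
      have h1 := hcoef a
      have h3 := hcoef b
      have h4 : (m b : ℂ) = m a := by
        rw [← h1, ← h3]
        exact hχ'c
      exact_mod_cast h4
    have hnc : χ' ≠ χ := by
      intro hcc
      -- all constituents are equal
      have hall : ∀ η : IrrCharacter N, m η ≠ 0 → η = a := by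
        intro η hη
        have h1 : classInner (fun n : N => ψ n) (η : N → ℂ) ≠ 0 := by
          rw [hcoef η]
          exact_mod_cast hη
        obtain ⟨x, hx⟩ := exists_conj_of_constituents N hψ hχ η.2 hne h1
        apply Subtype.ext
        change (η : N → ℂ) = χ
        rw [hx]
        by_cases hxN : x ∈ N
        · funext n
          exact conjNormal_of_mem (isIrr_isClassFunction hχ) hxN n
        · have h3 : g⁻¹ * x ∈ N := by
            have := (Subgroup.mul_mem_iff_of_index_two h2 (a := g⁻¹) (b := x)).2
              (by simp [hg, hxN])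
            exact this
          funext n
          have h4 : (MulAut.conjNormal x : MulAut N) n =
              (MulAut.conjNormal g : MulAut N) ((MulAut.conjNormal (g⁻¹ * x) : MulAut N) n) := by
            ext
            simp [mul_assoc]
          change χ ((MulAut.conjNormal x : MulAut N) n) = χ n
          rw [h4]
          change χ' ((MulAut.conjNormal (g⁻¹ * x) : MulAut N) n) = χ n
          rw [hcc, conjNormal_of_mem (isIrr_isClassFunction hχ) h3]
      have h5 : ∑ η : IrrCharacter N, m η ^ 2 = m a ^ 2 := by
        apply Finset.sum_eq_single a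
        · intro η _ hη
          by_contra h6
          exact hη (hall η fun h7 => h6 (by rw [h7]; rfl))
        · intro h; exact absurd (Finset.mem_univ _) h
      rw [hsq] at h5
      have h6 : m a < 2 := by nlinarith
      interval_cases h7 : m a
      · exact hma rfl
      · omega
    have hab : a ≠ b := fun h => hnc (congrArg Subtype.val h).symm
    have h1 : ∀ η, η ≠ a → η ≠ b → m η = 0 := by
      intro η hηa hηb
      by_contra h0
      have h3 : ∑ x ∈ ({η, a, b} : Finset (IrrCharacter N)), m x ^ 2 ≤ ∑ x, m x ^ 2 :=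
        Finset.sum_le_sum_of_subset (Finset.subset_univ _)
      rw [hsq, Finset.sum_insert (by simp [hηa, hηb]), Finset.sum_pair hab, hmb] at h3
      have h4 : 1 ≤ m η ^ 2 := Nat.one_le_iff_ne_zero.2 (pow_ne_zero 2 h0)
      have h5 : 1 ≤ m a ^ 2 := Nat.one_le_iff_ne_zero.2 (pow_ne_zero 2 hma)
      omega
    have hma1 : m a = 1 := by
      have h3 : ∑ x ∈ ({a, b} : Finset (IrrCharacter N)), m x ^ 2 ≤ ∑ x, m x ^ 2 :=
        Finset.sum_le_sum_of_subset (Finset.subset_univ _)
      rw [hsq, Finset.sum_pair hab, hmb] at h3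
      have h4 : m a < 2 := by nlinarith
      omega
    refine ⟨fun n => ?_, hnc⟩
    have h3 := congrFun hm n
    simp only [Finset.sum_apply, Pi.smul_apply] at h3
    rw [h3, ← Finset.sum_subset (Finset.subset_univ ({a, b} : Finset (IrrCharacter N)))]
    · rw [Finset.sum_pair hab, hmb, hma1, one_smul, one_smul]
      rfl
    · intro η _ hη
      simp only [Finset.mem_insert, Finset.mem_singleton, not_or] at hη
      rw [h1 η hη.1 hη.2, zero_smul]

end Cfsg.Agent.H348.PPD.Dich
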