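import Cfsg.Agent.H348.PPD.Rows
import Cfsg.Agent.H474.Suz13.Main
import Cfsg.Agent.NotCT.Orders
import Cfsg.Agent.S2074

/-!
# The row of `Suz` (helper348)
-/

set_option autoImplicit false

open Cfsg Subgroup
open Cfsg.Agent.Characters.Core Cfsg.Agent.H794.PP Cfsg.Agent.H29.MinExt
open Cfsg.Agent.H348.PPD.Aut Cfsg.Agent.H348.PPD.Crit

namespace Cfsg.Agent.H348.PPD.RowSuz

universe u

theorem cent11 : ∃ x : Spor.Suz, orderOf x = 11 ∧ Nat.card (centralizer ({x} : Set Spor.Suz)) = 11 := by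
  have ho : orderOf Cfsg.Agent.OddHalf.Table.SuzRep.x = 11 := Cfsg.Agent.OddHalf.Table.OutSuz.order_x
  refine ⟨Cfsg.Agent.OddHalf.Table.SuzRep.x, ho, ?_⟩
  have h : centralizer ({Cfsg.Agent.OddHalf.Table.SuzRep.x} : Set Spor.Suz) =
      zpowers Cfsg.Agent.OddHalf.Table.SuzRep.x := by
    apply le_antisymm
    · intro c hc
      obtain ⟨i, rfl⟩ := Cfsg.Agent.OddHalf.Table.OutSuz.cent_x c (mem_centralizer_singleton_iff.1 hc)
      exact ⟨i, zpow_natCast _ _⟩
    · exact zpowers_le.2 (mem_centralizer_singleton_iff.2 rfl)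
  rw [h, Nat.card_zpowers, ho]

theorem not_bad (hc : center Spor.Suz = ⊥)
    (hidx : (MulAut.conj : Spor.Suz →* MulAut Spor.Suz).range.index = 2) (d : ℕ) (hd : IsPrimePow d)
    (B : BadData Spor.Suz d) : False := by
  have hn : Nat.card Spor.Suz = 448345497600 := Cfsg.Agent.NotCT.Orders.suz ⟨MulEquiv.refl _⟩
  have hfin : Finite Spor.Suz := Nat.finite_of_card_ne_zero (by rw [hn]; norm_num)
  obtain ⟨x, hx, hcx⟩ := cent11
  obtain ⟨y, hy, hcy⟩ := Cfsg.Agent.H474.Suz13.suz_thirteen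
  have hm := deg_mem B hd hn [(2, 13), (3, 7), (5, 2), (7, 1), (11, 1), (13, 1)] (by
      intro q hq
      simp only [List.mem_cons, List.not_mem_nil, or_false] at hq
      rcases hq with rfl | rfl | rfl | rfl | rfl | rfl <;> norm_num) (by simp) (by decide +kernel)
  have k1 := okOne_of hc hidx (by norm_num) (by norm_num) hn (by norm_num) hx hcx B
  have k2 := okOne_of hc hidx (by norm_num) (by norm_num) hn (by norm_num) hy hcy B
  have key : ∀ d ∈ ppDivs [(2, 13), (3, 7), (5, 2), (7, 1), (11, 1), (13, 1)],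
      okOne 448345497600 11 d = true → okOne 448345497600 13 d = true → False := by
    decide +kernel
  exact key d hm k1 k2

theorem row {S : Type u} [Group S] [Finite S] [IsSimpleGroup S] (hna : ¬ IsMulCommutative S) (h : Spor.IsoSuz S)
    (hp : HasPP S) : ExtPP S :=
  Rows.row_two Cfsg.Agent.S2074.result not_bad hna h.some hp

end Cfsg.Agent.H348.PPD.RowSuz
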