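import Cfsg.Agent.H348.PPD.Aut

/-!
# Congruences for the degrees of noninvariant characters (helper348)

* `one`, `two` : the criteria `key_one`, `key_two` applied to `S` in `MulAut S`;
* `okOne`, `okTwo` : the Boolean versions, `mem_ppDivs` : the list of the prime power divisors of a number.
-/

set_option autoImplicit false

open scoped ComplexConjugate
open Cfsg Subgroup
open Cfsg.Agent.Characters.Core Cfsg.Agent.H794.PP Cfsg.Agent.H29.MinExt Cfsg.Agent.H681.DegBasic
open Cfsg.Agent.H348.PPD.Aut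

namespace Cfsg.Agent.H348.PPD.Crit

universe u

variable {S : Type u} [Group S]

theorem card_aut (hc : center S = ⊥) (hidx : (MulAut.conj : S →* MulAut S).range.index = 2) :
    Nat.card (MulAut S) = 2 * Nat.card S := by
  have h := (MulAut.conj : S →* MulAut S).range.card_mul_index
  rw [hidx, ← Nat.card_congr (MonoidHom.ofInjective (conj_injective hc)).toEquiv] at h
  omega

theorem orderOf_conj (hc : center S = ⊥) (x : S) : orderOf (MulAut.conj x) = orderOf x :=
  orderOf_injective _ (conj_injective hc) x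

theorem card_cent (hc : center S = ⊥) (x : S) :
    Nat.card (centralizer ({MulAut.conj x} : Set (MulAut S)) ⊓ (MulAut.conj : S →* MulAut S).range :
      Subgroup (MulAut S)) = Nat.card (centralizer ({x} : Set S)) := by
  have h : (centralizer ({MulAut.conj x} : Set (MulAut S)) ⊓ (MulAut.conj : S →* MulAut S).range :
      Subgroup (MulAut S)) = (centralizer ({x} : Set S)).map (MulAut.conj : S →* MulAut S) := by
    ext α
    simp only [mem_inf, mem_map, MonoidHom.mem_range, mem_centralizer_singleton_iff]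
    constructor
    · rintro ⟨h1, s, rfl⟩
      exact ⟨s, conj_injective hc (by rw [map_mul, map_mul]; exact h1), rfl⟩
    · rintro ⟨s, h1, rfl⟩
      exact ⟨by rw [← map_mul, h1, map_mul], s, rfl⟩
  rw [h]
  exact (Nat.card_congr ((centralizer ({x} : Set S)).equivMapOfInjective _ (conj_injective hc)).toEquiv).symm

theorem exists_outer (hidx : (MulAut.conj : S →* MulAut S).range.index = 2) :
    ∃ α : MulAut S, α ∉ (MulAut.conj : S →* MulAut S).range := by
  by_contra h
  push Not at h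
  have : (MulAut.conj : S →* MulAut S).range = ⊤ := by
    rw [eq_top_iff]
    exact fun α _ => h α
  rw [this, index_top] at hidx
  omega

/-- The degree of the character of the automorphism group. -/
theorem charDegree_psi (hidx : (MulAut.conj : S →* MulAut S).range.index = 2) {d : ℕ} (B : BadData S d) :
    charDegree (B.ψ : MulAut S → ℂ) = 2 * d := by
  obtain ⟨α, hα⟩ := exists_outer hidx
  have h := B.val α hα 1
  rw [map_one, map_one, B.deg] at h
  have h2 : ((d : ℂ) + d).re = ((2 * d : ℕ) : ℝ) := by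
    simp only [Complex.add_re, Complex.natCast_re]
    push_cast
    ring
  rw [charDegree, h, h2, Nat.floor_natCast]

/-- **First criterion.** -/
theorem one [Finite S] (hc : center S = ⊥) (hidx : (MulAut.conj : S →* MulAut S).range.index = 2)
    {r : ℕ} (hr : r.Prime) (hr2 : r ≠ 2) (hsq : ¬ r ^ 2 ∣ Nat.card S) {x : S} (hx : orderOf x = r)
    (hk : Nat.card (centralizer ({x} : Set S)) = r) {d : ℕ} (B : BadData S d) (hd : ¬ r ∣ d) :
    (2 * Nat.card S / r) % r ∣ r - 1 ∧ ((2 * Nat.card S / r) % r = r - 1 →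
      (((2 * d : ℕ) : ℤ) ≡ 1 [ZMOD r] ∨ ((2 * d : ℕ) : ℤ) ≡ -1 [ZMOD r]) ∧
      ∃ a : ℤ, (a = 1 ∨ a = -1) ∧ (B.ψ : MulAut S → ℂ) (MulAut.conj x) = a) := by
  have : Fact r.Prime := ⟨hr⟩
  have h1 := Key.key_one (p := r) (x := MulAut.conj x) hidx hr2 (by
      rw [card_aut hc hidx]
      intro h
      refine hsq ((Nat.Coprime.dvd_of_dvd_mul_left ?_ h))
      exact Nat.Coprime.pow_left _ ((Nat.coprime_primes hr Nat.prime_two).2 hr2))
    (by rw [orderOf_conj hc, hx]) (by rw [card_cent hc, hk]) (χ := B.ψ) B.zero (by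
      rw [charDegree_psi hidx]
      intro h
      rcases hr.dvd_mul.1 h with h | h
      · exact hr2 ((Nat.prime_dvd_prime_iff_eq hr Nat.prime_two).1 h)
      · exact hd h)
  rwa [card_aut hc hidx, charDegree_psi hidx] at h1

/-- **Second criterion.** -/
theorem two [Finite S] (hc : center S = ⊥) (hidx : (MulAut.conj : S →* MulAut S).range.index = 2)
    {r : ℕ} (hr : r.Prime) (hr2 : r ≠ 2) (hsq : ¬ r ^ 2 ∣ Nat.card S) {x : S} (hx : orderOf x = r)
    (hk : Nat.card (centralizer ({x} : Set S)) = r * 2) {d : ℕ} (B : BadData S d) (hd : ¬ r ∣ d)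
    (hA : ∀ e, e ∣ r - 1 → e * 2 ≡ 2 * Nat.card S / r [MOD r] → e = r - 1)
    (hB : ∀ e, e ∣ r - 1 → e * 4 ≡ 2 * Nat.card S / r [MOD r] → Odd e) :
    (((2 * d : ℕ) : ℤ) ≡ 1 [ZMOD r] ∨ ((2 * d : ℕ) : ℤ) ≡ -1 [ZMOD r]) ∧
      ∃ a : ℤ, (a = 1 ∨ a = -1) ∧ (B.ψ : MulAut S → ℂ) (MulAut.conj x) = a := by
  have : Fact r.Prime := ⟨hr⟩
  have h1 := Key.key_two (p := r) (x := MulAut.conj x) hidx hr2 (by
      rw [card_aut hc hidx]
      intro h
      refine hsq ((Nat.Coprime.dvd_of_dvd_mul_left ?_ h))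
      exact Nat.Coprime.pow_left _ ((Nat.coprime_primes hr Nat.prime_two).2 hr2))
    (by rw [orderOf_conj hc, hx]) (by rw [card_cent hc, hk])
    (by rw [card_aut hc hidx]; exact hA) (by rw [card_aut hc hidx]; exact hB) (χ := B.ψ) B.zero (by
      rw [charDegree_psi hidx]
      intro h
      rcases hr.dvd_mul.1 h with h | h
      · exact hr2 ((Nat.prime_dvd_prime_iff_eq hr Nat.prime_two).1 h)
      · exact hd h)
  rwa [charDegree_psi hidx] at h1

/-! ### Boolean versions -/

def okOne (n r d : ℕ) : Bool :=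
  d % r == 0 || (((r - 1) % ((2 * n / r) % r) == 0) &&
    ((2 * n / r) % r != r - 1 || (2 * d) % r == 1 || (2 * d) % r == r - 1))

def okTwo (r d : ℕ) : Bool := d % r == 0 || (2 * d) % r == 1 || (2 * d) % r == r - 1

theorem mod_of_cong {r m : ℕ} (hr : 2 < r) (h : (m : ℤ) ≡ 1 [ZMOD r] ∨ (m : ℤ) ≡ -1 [ZMOD r]) :
    m % r = 1 ∨ m % r = r - 1 := by
  rcases h with h | h
  · left
    have h1 : m ≡ 1 [MOD r] := by
      rw [← Int.natCast_modEq_iff]
      exact_mod_cast h
    rw [Nat.ModEq, Nat.mod_eq_of_lt (by omega : 1 < r)] at h1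
    exact h1
  · right
    have h1 : m ≡ r - 1 [MOD r] := by
      rw [← Int.natCast_modEq_iff]
      refine h.trans ?_
      rw [Nat.cast_sub (by omega), Nat.cast_one]
      refine (Int.modEq_iff_dvd.2 ⟨1, by ring⟩)
    rw [Nat.ModEq, Nat.mod_eq_of_lt (by omega : r - 1 < r)] at h1
    exact h1

theorem okOne_of [Finite S] (hc : center S = ⊥) (hidx : (MulAut.conj : S →* MulAut S).range.index = 2)
    {r n : ℕ} (hr : r.Prime) (hr2 : r ≠ 2) (hn : Nat.card S = n) (hsq : ¬ r ^ 2 ∣ n) {x : S} (hx : orderOf x = r)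
    (hk : Nat.card (centralizer ({x} : Set S)) = r) {d : ℕ} (B : BadData S d) : okOne n r d = true := by
  have h2 := hr.two_le
  subst hn
  unfold okOne
  by_cases hd : r ∣ d
  · simp [Nat.mod_eq_zero_of_dvd hd]
  obtain ⟨h1, h3⟩ := one hc hidx hr hr2 hsq hx hk B hd
  simp only [Bool.or_eq_true, Bool.and_eq_true, beq_iff_eq, bne_iff_ne, ne_eq]
  right
  refine ⟨Nat.mod_eq_zero_of_dvd h1, ?_⟩
  by_cases h4 : (2 * Nat.card S / r) % r = r - 1
  · rcases mod_of_cong (by omega) (h3 h4).1 with h | h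
    · exact Or.inl (Or.inr h)
    · exact Or.inr h
  · exact Or.inl (Or.inl h4)

theorem okTwo_of [Finite S] (hc : center S = ⊥) (hidx : (MulAut.conj : S →* MulAut S).range.index = 2)
    {r n : ℕ} (hr : r.Prime) (hr2 : r ≠ 2) (hn : Nat.card S = n) (hsq : ¬ r ^ 2 ∣ n) {x : S} (hx : orderOf x = r)
    (hk : Nat.card (centralizer ({x} : Set S)) = r * 2)
    (hA : ∀ e ∈ List.range r, e ∣ r - 1 → (e * 2) % r = (2 * n / r) % r → e = r - 1)
    (hB : ∀ e ∈ List.range r, e ∣ r - 1 → (e * 4) % r = (2 * n / r) % r → e % 2 = 1)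
    {d : ℕ} (B : BadData S d) : okTwo r d = true := by
  have h2 := hr.two_le
  subst hn
  unfold okTwo
  by_cases hd : r ∣ d
  · simp [Nat.mod_eq_zero_of_dvd hd]
  obtain ⟨h1, -⟩ := two hc hidx hr hr2 hsq hx hk B hd
    (fun e he h => hA e (List.mem_range.2 (by have := Nat.le_of_dvd (by omega) he; omega)) he h)
    (fun e he h => Nat.odd_iff.2
      (hB e (List.mem_range.2 (by have := Nat.le_of_dvd (by omega) he; omega)) he h))
  simp only [Bool.or_eq_true, beq_iff_eq]
  rcases mod_of_cong (by omega) h1 with h | h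
  · exact Or.inl (Or.inr h)
  · exact Or.inr h

/-! ### Prime power divisors -/

def prodPP (L : List (ℕ × ℕ)) : ℕ := (L.map fun q => q.1 ^ q.2).prod

def ppDivs (L : List (ℕ × ℕ)) : List ℕ := L.flatMap fun q => (List.range q.2).map fun i => q.1 ^ (i + 1)

theorem mem_ppDivs {d : ℕ} (hd : IsPrimePow d) : ∀ {L : List (ℕ × ℕ)}, (∀ q ∈ L, q.1.Prime) →
    L.Pairwise (fun a b => a.1 ≠ b.1) → d ∣ prodPP L → d ∈ ppDivs L := by
  obtain ⟨q, k, hq, hk, rfl⟩ := hd
  have hq' := hq.nat_prime
  intro L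
  induction L with
  | nil =>
    intro _ _ h
    simp only [prodPP, List.map_nil, List.prod_nil] at h
    have h1 := Nat.le_of_dvd one_pos h
    have h2 : 1 < q ^ k := Nat.one_lt_pow hk.ne' hq'.one_lt
    omega
  | cons a L ih =>
    intro hL hP h
    have hprod : prodPP (a :: L) = a.1 ^ a.2 * prodPP L := by simp [prodPP]
    have hmem : ppDivs (a :: L) = ((List.range a.2).map fun i => a.1 ^ (i + 1)) ++ ppDivs L := by simp [ppDivs]
    rw [hmem, List.mem_append]
    rw [List.pairwise_cons] at hP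
    have ha : a.1.Prime := hL a (by simp)
    have hcop : ∀ b ∈ L, Nat.Coprime a.1 (b.1 ^ b.2) := fun b hb =>
      Nat.Coprime.pow_right _ ((Nat.coprime_primes ha (hL b (by simp [hb]))).2 (hP.1 b hb))
    have hcop2 : Nat.Coprime a.1 (prodPP L) := by
      unfold prodPP
      apply Nat.Coprime.symm
      rw [Nat.coprime_list_prod_left_iff]
      intro c hc
      obtain ⟨b, hb, rfl⟩ := List.mem_map.1 hc
      exact (hcop b hb).symm
    rw [hprod] at h
    by_cases hqa : q = a.1
    · left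
      subst hqa
      have h1 : a.1 ^ k ∣ a.1 ^ a.2 := Nat.Coprime.dvd_of_dvd_mul_right (Nat.Coprime.pow_left _ hcop2) h
      have h2 : k ≤ a.2 := (Nat.pow_dvd_pow_iff_le_right ha.one_lt).1 h1
      exact List.mem_map.2 ⟨k - 1, List.mem_range.2 (by omega), by rw [Nat.sub_add_cancel hk]⟩
    · right
      refine ih (fun b hb => hL b (by simp [hb])) hP.2 ?_
      exact Nat.Coprime.dvd_of_dvd_mul_left
        (Nat.Coprime.pow_left _ (Nat.Coprime.pow_right _ ((Nat.coprime_primes hq' ha).2 hqa))) h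

theorem deg_dvd [Finite S] {d : ℕ} (B : BadData S d) : d ∣ Nat.card S :=
  dvd_card (mem_charDegrees.2 ⟨B.χ, B.χ.2, B.deg⟩)

/-- The degree is in the list. -/
theorem deg_mem [Finite S] {d n : ℕ} (B : BadData S d) (hd : IsPrimePow d) (hn : Nat.card S = n) (L : List (ℕ × ℕ))
    (hL : ∀ q ∈ L, q.1.Prime) (hP : L.Pairwise (fun a b => a.1 ≠ b.1)) (hprod : prodPP L = n) : d ∈ ppDivs L :=
  mem_ppDivs hd hL hP (by rw [hprod, ← hn]; exact deg_dvd B)

end Cfsg.Agent.H348.PPD.Crit
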