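import Cfsg.Agent.H348.PPD.Rows
import Cfsg.Agent.H713.Spor.Fi22
import Cfsg.Agent.S2079

/-!
# The row of `Fi₂₂` (helper348)
-/

set_option autoImplicit false

open Cfsg Subgroup
open Cfsg.Agent.Characters.Core Cfsg.Agent.H794.PP Cfsg.Agent.H29.MinExt
open Cfsg.Agent.H348.PPD.Aut Cfsg.Agent.H348.PPD.Crit

namespace Cfsg.Agent.H348.PPD.RowFi22

universe u

theorem not_bad (hc : center Spor.Fi22 = ⊥)
    (hidx : (MulAut.conj : Spor.Fi22 →* MulAut Spor.Fi22).range.index = 2) (d : ℕ) (hd : IsPrimePow d)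
    (B : BadData Spor.Fi22 d) : False := by
  have hn := Cfsg.Agent.H713.Spor.Fi22.card_fi22 (MulEquiv.refl Spor.Fi22)
  have hfin : Finite Spor.Fi22 := Nat.finite_of_card_ne_zero (by rw [hn]; norm_num)
  have hp13 : Fact (Nat.Prime 13) := ⟨by norm_num⟩
  have hp11 : Fact (Nat.Prime 11) := ⟨by norm_num⟩
  obtain ⟨x, hx⟩ := exists_prime_orderOf_dvd_card' (G := Spor.Fi22) 13 (by rw [hn]; norm_num)
  obtain ⟨y, hy⟩ := exists_prime_orderOf_dvd_card' (G := Spor.Fi22) 11 (by rw [hn]; norm_num)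
  have hm := deg_mem B hd hn [(2, 17), (3, 9), (5, 2), (7, 1), (11, 1), (13, 1)] (by
      intro q hq
      simp only [List.mem_cons, List.not_mem_nil, or_false] at hq
      rcases hq with rfl | rfl | rfl | rfl | rfl | rfl <;> norm_num) (by simp) (by decide +kernel)
  have k1 := okOne_of hc hidx hp13.out (by norm_num) hn (by norm_num) hx
    (Cfsg.Agent.H713.Spor.Fi22.cent_13 (MulEquiv.refl Spor.Fi22) hx) B
  have k2 := okTwo_of hc hidx hp11.out (by norm_num) hn (by norm_num) hy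
    (Cfsg.Agent.H713.Spor.Fi22.cent_11 (MulEquiv.refl Spor.Fi22) hy) (by decide +kernel) (by decide +kernel) B
  have key : ∀ d ∈ ppDivs [(2, 17), (3, 9), (5, 2), (7, 1), (11, 1), (13, 1)], okOne 64561751654400 13 d = true →
      okTwo 11 d = true → False := by decide +kernel
  exact key d hm k1 k2

theorem row {S : Type u} [Group S] [Finite S] [IsSimpleGroup S] (hna : ¬ IsMulCommutative S) (h : Spor.IsoFi22 S)
    (hp : HasPP S) : ExtPP S :=
  Rows.row_two Cfsg.Agent.S2079.result not_bad hna h.some hp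

end Cfsg.Agent.H348.PPD.RowFi22
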