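import Cfsg.Agent.H348.PPD.Rows
import Cfsg.Agent.H843.N29
import Cfsg.Agent.H843.N17
import Cfsg.Agent.NotCT.Orders
import Cfsg.Agent.S2081

/-!
# The row of `Fi₂₄'` (helper348)
-/

set_option autoImplicit false

open Cfsg Subgroup
open Cfsg.Agent.Characters.Core Cfsg.Agent.H794.PP Cfsg.Agent.H29.MinExt
open Cfsg.Agent.H348.PPD.Aut Cfsg.Agent.H348.PPD.Crit

namespace Cfsg.Agent.H348.PPD.RowFi24

universe u

/-- The centralizer in a subgroup. -/
theorem card_cent_sub {G : Type*} [Group G] (N : Subgroup G) (x : N) :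
    Nat.card (centralizer ({x} : Set N)) = Nat.card (N ⊓ centralizer ({(x : G)} : Set G) : Subgroup G) := by
  have h : (centralizer ({x} : Set N)).map N.subtype = N ⊓ centralizer ({(x : G)} : Set G) := by
    ext g
    simp only [mem_inf, mem_map, mem_centralizer_singleton_iff, Subgroup.coe_subtype]
    constructor
    · rintro ⟨y, h1, rfl⟩
      exact ⟨y.2, congrArg Subtype.val h1⟩
    · rintro ⟨h1, h2⟩
      exact ⟨⟨g, h1⟩, Subtype.ext h2, rfl⟩
  rw [← h]
  exact Nat.card_congr ((centralizer ({x} : Set N)).equivMapOfInjective _ N.subtype_injective).toEquiv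

theorem cent_zpowers {G : Type*} [Group G] (x : G) :
    centralizer (zpowers x : Set G) = centralizer ({x} : Set G) := by
  rw [zpowers_eq_closure, centralizer_closure]

theorem cent29 : ∃ x : Spor.Fi24', orderOf x = 29 ∧ Nat.card (centralizer ({x} : Set Spor.Fi24')) = 29 := by
  have hfin : Finite Spor.Fi24 := Cfsg.Agent.R08.FiTwentyFour.finite_Fi24
  have hord := Cfsg.Agent.H843.D29.order
  have hx := Cfsg.Agent.H843.Fi24N.mem_commutator (x := Cfsg.Agent.H843.D29.D.x) (by rw [hord]; decide)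
  refine ⟨⟨_, hx⟩, by rw [Subgroup.orderOf_mk, hord], ?_⟩
  rw [card_cent_sub]
  have h1 := Cfsg.Agent.H843.D29.main.2
  rw [cent_zpowers] at h1
  refine Nat.dvd_antisymm ?_ ?_
  · rw [← h1]
    exact card_dvd_of_le inf_le_right
  · have hle : zpowers Cfsg.Agent.H843.D29.D.x ≤
        (_root_.commutator Spor.Fi24 ⊓ centralizer ({Cfsg.Agent.H843.D29.D.x} : Set Spor.Fi24)) :=
      le_inf (zpowers_le.2 hx) (zpowers_le.2 (mem_centralizer_singleton_iff.2 rfl))
    have h2 := card_dvd_of_le hle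
    rwa [Nat.card_zpowers, hord] at h2

theorem cent17 : ∃ x : Spor.Fi24', orderOf x = 17 ∧ Nat.card (centralizer ({x} : Set Spor.Fi24')) = 17 := by
  have hfin : Finite Spor.Fi24 := Cfsg.Agent.R08.FiTwentyFour.finite_Fi24
  have hord := Cfsg.Agent.H843.D17.order
  have hx := Cfsg.Agent.H843.Fi24N.mem_commutator (x := Cfsg.Agent.H843.D17.D.x) (by rw [hord]; decide)
  refine ⟨⟨_, hx⟩, by rw [Subgroup.orderOf_mk, hord], ?_⟩
  rw [card_cent_sub]
  have h1 := Cfsg.Agent.H843.D17.main.2
  obtain ⟨l, hmem⟩ : ∃ l, l ∈ Cfsg.Agent.R08.FiTwentyFour.L ∩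
      (Subgroup.centralizer (Subgroup.zpowers Cfsg.Agent.H843.D17.D.x : Set Spor.Fi24) : Set Spor.Fi24) := by
    rw [Cfsg.Agent.H843.D17.inter]; exact ⟨_, rfl⟩
  have h2 := Cfsg.Agent.H843.Fi24N.half hmem.2 hmem.1
  rw [h1, cent_zpowers] at h2
  change Nat.card (_root_.commutator Spor.Fi24 ⊓ centralizer ({Cfsg.Agent.H843.D17.D.x} : Set Spor.Fi24) :
    Subgroup Spor.Fi24) = 17
  omega

theorem not_bad (hc : center Spor.Fi24' = ⊥)
    (hidx : (MulAut.conj : Spor.Fi24' →* MulAut Spor.Fi24').range.index = 2) (d : ℕ) (hd : IsPrimePow d)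
    (B : BadData Spor.Fi24' d) : False := by
  have hn : Nat.card Spor.Fi24' = 1255205709190661721292800 := Cfsg.Agent.NotCT.Orders.fi24 ⟨MulEquiv.refl _⟩
  have hfin : Finite Spor.Fi24' := Nat.finite_of_card_ne_zero (by rw [hn]; norm_num)
  obtain ⟨x, hx, hcx⟩ := cent29
  obtain ⟨y, hy, hcy⟩ := cent17
  have hm := deg_mem B hd hn [(2, 21), (3, 16), (5, 2), (7, 3), (11, 1), (13, 1), (17, 1), (23, 1), (29, 1)] (by
      intro q hq
      simp only [List.mem_cons, List.not_mem_nil, or_false] at hq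
      rcases hq with rfl | rfl | rfl | rfl | rfl | rfl | rfl | rfl | rfl <;> norm_num) (by simp) (by decide +kernel)
  have k1 := okOne_of hc hidx (by norm_num) (by norm_num) hn (by norm_num) hx hcx B
  have k2 := okOne_of hc hidx (by norm_num) (by norm_num) hn (by norm_num) hy hcy B
  have key : ∀ d ∈ ppDivs [(2, 21), (3, 16), (5, 2), (7, 3), (11, 1), (13, 1), (17, 1), (23, 1), (29, 1)],
      okOne 1255205709190661721292800 29 d = true → okOne 1255205709190661721292800 17 d = true → False := by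
    decide +kernel
  exact key d hm k1 k2

theorem row {S : Type u} [Group S] [Finite S] [IsSimpleGroup S] (hna : ¬ IsMulCommutative S) (h : Spor.IsoFi24' S)
    (hp : HasPP S) : ExtPP S :=
  Rows.row_two Cfsg.Agent.S2081.result not_bad hna h.some hp

end Cfsg.Agent.H348.PPD.RowFi24
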