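import Cfsg.Agent.H348.PPD.RowHNBase
import Cfsg.Agent.H845.HNNineteen

/-!
# The row of `HN` (helper348)
-/

set_option autoImplicit false

open Cfsg Subgroup
open Cfsg.Agent.H794.PP Cfsg.Agent.H29.MinExt

namespace Cfsg.Agent.H348.PPD.RowHN

universe u

theorem simple_of {S : Type u} [Group S] [IsSimpleGroup S] (e : S ≃* Spor.HN) : IsSimpleGroup Spor.HN := by
  have : Nontrivial Spor.HN := e.symm.toEquiv.nontrivial
  exact IsSimpleGroup.isSimpleGroup_of_surjective e.toMonoidHom e.surjective

theorem row {S : Type u} [Group S] [Finite S] [IsSimpleGroup S] (hna : ¬ IsMulCommutative S) (h : Spor.IsoHN S)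
    (hp : HasPP S) : ExtPP S :=
  Rows.row_two Cfsg.Agent.S2082.result
    (not_bad_of Cfsg.Agent.H845.HNNineteen.hn_nineteen (simple_of h.some)) hna h.some hp

end Cfsg.Agent.H348.PPD.RowHN
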