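import Cfsg.Agent.H348.PPD.Rows
import Cfsg.Agent.H845.HNSevenA
import Cfsg.Agent.NotCT.Orders
import Cfsg.Agent.S2072

/-!
# The row of `HS` (helper348)
-/

set_option autoImplicit false

open Cfsg Subgroup
open Cfsg.Agent.Characters.Core Cfsg.Agent.H794.PP Cfsg.Agent.H29.MinExt
open Cfsg.Agent.H348.PPD.Aut Cfsg.Agent.H348.PPD.Crit

namespace Cfsg.Agent.H348.PPD.RowHS

universe u

theorem not_bad (hc : center Spor.HS = ⊥)
    (hidx : (MulAut.conj : Spor.HS →* MulAut Spor.HS).range.index = 2) (d : ℕ) (hd : IsPrimePow d)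
    (B : BadData Spor.HS d) : False := by
  have hn : Nat.card Spor.HS = 44352000 := Cfsg.Agent.NotCT.Orders.hs ⟨MulEquiv.refl _⟩
  have hfin : Finite Spor.HS := Nat.finite_of_card_ne_zero (by rw [hn]; norm_num)
  have hp7 : Fact (Nat.Prime 7) := ⟨by norm_num⟩
  obtain ⟨D, ψ, R⟩ := Cfsg.Agent.H904.HSCent.exists_rep (L := Spor.HS) ⟨MulEquiv.refl _⟩
  obtain ⟨x, hx, hle⟩ := R.exists_eleven
  have hcx : Nat.card (centralizer ({x} : Set Spor.HS)) = 11 := by
    have h1 : zpowers x ≤ centralizer ({x} : Set Spor.HS) := zpowers_le.2 (mem_centralizer_singleton_iff.2 rfl)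
    have h2 := card_le_of_le h1
    rw [Nat.card_zpowers, hx] at h2
    omega
  obtain ⟨y, hy⟩ := exists_prime_orderOf_dvd_card' (G := Spor.HS) 7 (by rw [hn]; norm_num)
  have hcy := Cfsg.Agent.H845.HNSevenA.hs_seven (L := Spor.HS) ⟨MulEquiv.refl _⟩ hy
  have hm := deg_mem B hd hn [(2, 9), (3, 2), (5, 3), (7, 1), (11, 1)] (by
      intro q hq
      simp only [List.mem_cons, List.not_mem_nil, or_false] at hq
      rcases hq with rfl | rfl | rfl | rfl | rfl <;> norm_num) (by simp) (by decide +kernel)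
  have k1 := okOne_of hc hidx (by norm_num) (by norm_num) hn (by norm_num) hx hcx B
  have k2 := okOne_of hc hidx (by norm_num) (by norm_num) hn (by norm_num) hy hcy B
  have key : ∀ d ∈ ppDivs [(2, 9), (3, 2), (5, 3), (7, 1), (11, 1)],
      okOne 44352000 11 d = true → okOne 44352000 7 d = true → False := by
    decide +kernel
  exact key d hm k1 k2

theorem row {S : Type u} [Group S] [Finite S] [IsSimpleGroup S] (hna : ¬ IsMulCommutative S) (h : Spor.IsoHS S)
    (hp : HasPP S) : ExtPP S :=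
  Rows.row_two Cfsg.Agent.S2072.result not_bad hna h.some hp

end Cfsg.Agent.H348.PPD.RowHS
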