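import Cfsg.Agent.H348.PPD.Half
import Cfsg.Agent.H898.J3Cent
import Cfsg.Agent.S2067

/-!
# The row of `J₃` (helper348)
-/

set_option autoImplicit false

open Cfsg Subgroup
open Cfsg.Agent.Characters.Core Cfsg.Agent.H794.PP Cfsg.Agent.H29.MinExt
open Cfsg.Agent.H348.PPD.Aut Cfsg.Agent.H348.PPD.Crit

namespace Cfsg.Agent.H348.PPD.RowJ3

universe u

theorem not_bad {X : Type u} [Group X] (h : Spor.IsoJ3 X) (hc : center X = ⊥)
    (hidx : (MulAut.conj : X →* MulAut X).range.index = 2) (d : ℕ) (hd : IsPrimePow d) (B : BadData X d) : False := by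
  obtain ⟨hs, hn, -⟩ := Cfsg.Agent.H898.J3Cent.base h
  have hfin : Finite X := Nat.finite_of_card_ne_zero (by rw [hn]; norm_num)
  have hp19 : Fact (Nat.Prime 19) := ⟨by norm_num⟩
  have hp17 : Fact (Nat.Prime 17) := ⟨by norm_num⟩
  obtain ⟨x, hx⟩ := exists_prime_orderOf_dvd_card' (G := X) 19 (by rw [hn]; norm_num)
  obtain ⟨y, hy⟩ := exists_prime_orderOf_dvd_card' (G := X) 17 (by rw [hn]; norm_num)
  have hm := deg_mem B hd hn [(2, 7), (3, 5), (5, 1), (17, 1), (19, 1)] (by
      intro q hq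
      simp only [List.mem_cons, List.not_mem_nil, or_false] at hq
      rcases hq with rfl | rfl | rfl | rfl | rfl <;> norm_num) (by simp) (by decide +kernel)
  have k1 := okOne_of hc hidx hp19.out (by norm_num) hn (by norm_num) hx
    (Cfsg.Agent.H898.J3Cent.card_nineteen h hx) B
  have k2 := okOne_of hc hidx hp17.out (by norm_num) hn (by norm_num) hy
    (Cfsg.Agent.H898.J3Cent.seventeen h hy).1 B
  have key : ∀ d ∈ ppDivs [(2, 7), (3, 5), (5, 1), (17, 1), (19, 1)], okOne 50232960 19 d = true →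
      okOne 50232960 17 d = true → d = 9 := by decide +kernel
  have hd9 := key d hm k1 k2
  subst hd9
  exact Half.half hs hc hp19.out hn (by norm_num) (by norm_num) (by norm_num) (by norm_num) (by norm_num)
    B.χ.2 B.deg

theorem row {S : Type u} [Group S] [Finite S] [IsSimpleGroup S] (hna : ¬ IsMulCommutative S) (h : Spor.IsoJ3 S)
    (hp : HasPP S) : ExtPP S := by
  obtain ⟨F, i1, i2, ω, hF, hω, ⟨e⟩⟩ := h
  refine Rows.row_two (Cfsg.Agent.S2067.result hF ω hω) ?_ hna e hp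
  intro hc hidx d hd B
  exact not_bad ⟨F, i1, i2, ω, hF, hω, ⟨MulEquiv.refl _⟩⟩ hc hidx d hd B

end Cfsg.Agent.H348.PPD.RowJ3
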