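import Cfsg.Agent.H348.PPD.Rows
import Cfsg.Agent.H474.ONC.End
import Cfsg.Agent.NotCT.Orders
import Cfsg.Agent.S2078

/-!
# The row of `O'N` (helper348)
-/

set_option autoImplicit false

open Cfsg Subgroup
open Cfsg.Agent.Characters.Core Cfsg.Agent.H794.PP Cfsg.Agent.H29.MinExt
open Cfsg.Agent.H348.PPD.Aut Cfsg.Agent.H348.PPD.Crit

namespace Cfsg.Agent.H348.PPD.RowON

universe u

theorem not_bad (hc : center Spor.ON = ⊥)
    (hidx : (MulAut.conj : Spor.ON →* MulAut Spor.ON).range.index = 2) (d : ℕ) (hd : IsPrimePow d)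
    (B : BadData Spor.ON d) : False := by
  have hn : Nat.card Spor.ON = 460815505920 := Cfsg.Agent.NotCT.Orders.on ⟨MulEquiv.refl _⟩
  have hfin : Finite Spor.ON := Nat.finite_of_card_ne_zero (by rw [hn]; norm_num)
  obtain ⟨x, hx, hcx⟩ := Cfsg.Agent.H474.ONC.on_nineteen
  obtain ⟨y, hy, hcy⟩ := Cfsg.Agent.H474.ONC.on_eleven
  have hm := deg_mem B hd hn [(2, 9), (3, 4), (5, 1), (7, 3), (11, 1), (19, 1), (31, 1)] (by
      intro q hq
      simp only [List.mem_cons, List.not_mem_nil, or_false] at hq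
      rcases hq with rfl | rfl | rfl | rfl | rfl | rfl | rfl <;> norm_num) (by simp) (by decide +kernel)
  have k1 := okOne_of hc hidx (by norm_num) (by norm_num) hn (by norm_num) hx hcx B
  have k2 := okOne_of hc hidx (by norm_num) (by norm_num) hn (by norm_num) hy hcy B
  have key : ∀ d ∈ ppDivs [(2, 9), (3, 4), (5, 1), (7, 3), (11, 1), (19, 1), (31, 1)],
      okOne 460815505920 19 d = true → okOne 460815505920 11 d = true → False := by
    decide +kernel
  exact key d hm k1 k2

theorem row {S : Type u} [Group S] [Finite S] [IsSimpleGroup S] (hna : ¬ IsMulCommutative S) (h : Spor.IsoON S)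
    (hp : HasPP S) : ExtPP S :=
  Rows.row_two Cfsg.Agent.S2078.result not_bad hna h.some hp

end Cfsg.Agent.H348.PPD.RowON
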