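import Cfsg.Agent.H348.PPD.Rows
import Cfsg.Agent.S2060
import Cfsg.Agent.S2063
import Cfsg.Agent.S2064
import Cfsg.Agent.S2065
import Cfsg.Agent.S2068
import Cfsg.Agent.S2069
import Cfsg.Agent.S2070
import Cfsg.Agent.S2071
import Cfsg.Agent.S2076
import Cfsg.Agent.S2077
import Cfsg.Agent.S2080
import Cfsg.Agent.S2083
import Cfsg.Agent.S2084
import Cfsg.Agent.S2085

/-!
# The rows of the sporadic groups without outer automorphisms (helper348)
-/

set_option autoImplicit false

open Cfsg Subgroup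
open Cfsg.Agent.H794.PP Cfsg.Agent.H29.MinExt Cfsg.Agent.H348.PPD.Rows

namespace Cfsg.Agent.H348.PPD.RowsOne

universe u

variable {S : Type u} [Group S] [IsSimpleGroup S]

theorem m11 (hna : ¬ IsMulCommutative S) (h : Spor.IsoM11 S) (hp : HasPP S) : ExtPP S :=
  row_one Cfsg.Agent.S2060.result hna h.some hp

theorem m23 (hna : ¬ IsMulCommutative S) (h : Spor.IsoM23 S) (hp : HasPP S) : ExtPP S :=
  row_one Cfsg.Agent.S2063.result hna h.some hp

theorem m24 (hna : ¬ IsMulCommutative S) (h : Spor.IsoM24 S) (hp : HasPP S) : ExtPP S :=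
  row_one Cfsg.Agent.S2064.result hna h.some hp

theorem j1 (hna : ¬ IsMulCommutative S) (h : Spor.IsoJ1 S) (hp : HasPP S) : ExtPP S :=
  row_one Cfsg.Agent.S2065.result hna h.some hp

theorem j4 (hna : ¬ IsMulCommutative S) (h : Spor.IsoJ4 S) (hp : HasPP S) : ExtPP S :=
  row_one Cfsg.Agent.S2068.result hna h.some hp

theorem co1 (hna : ¬ IsMulCommutative S) (h : Spor.IsoCo1 S) (hp : HasPP S) : ExtPP S :=
  row_one Cfsg.Agent.S2069.result hna h.some hp

theorem co2 (hna : ¬ IsMulCommutative S) (h : Spor.IsoCo2 S) (hp : HasPP S) : ExtPP S :=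
  row_one Cfsg.Agent.S2070.result hna h.some hp

theorem co3 (hna : ¬ IsMulCommutative S) (h : Spor.IsoCo3 S) (hp : HasPP S) : ExtPP S :=
  row_one Cfsg.Agent.S2071.result hna h.some hp

theorem ly (hna : ¬ IsMulCommutative S) (h : Spor.IsoLy S) (hp : HasPP S) : ExtPP S :=
  row_one Cfsg.Agent.S2076.result hna h.some hp

theorem ru (hna : ¬ IsMulCommutative S) (h : Spor.IsoRu S) (hp : HasPP S) : ExtPP S :=
  row_one Cfsg.Agent.S2077.result hna h.some hp

theorem fi23 (hna : ¬ IsMulCommutative S) (h : Spor.IsoFi23 S) (hp : HasPP S) : ExtPP S :=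
  row_one Cfsg.Agent.S2080.result hna h.some hp

theorem th (hna : ¬ IsMulCommutative S) (h : Spor.IsoTh S) (hp : HasPP S) : ExtPP S :=
  row_one Cfsg.Agent.S2083.result hna h.some hp

theorem b (hna : ¬ IsMulCommutative S) (h : Spor.IsoB S) (hp : HasPP S) : ExtPP S :=
  row_one Cfsg.Agent.S2084.result hna h.some hp

theorem m (hna : ¬ IsMulCommutative S) (h : Spor.IsoM S) (hp : HasPP S) : ExtPP S :=
  row_one Cfsg.Agent.S2085.result hna h.some hp

end Cfsg.Agent.H348.PPD.RowsOne
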