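import Cfsg.Agent.CpAutHe.Seven
import Cfsg.Agent.H415.HeRows

/-!
# A subgroup `7²` of the Held group with all nontrivial elements conjugate (helper348)

* `facts` : `U`, `W` commuting of order 7, `U^i W^j` conjugate to `U` for `(i, j) ≠ (0, 0)`, `|C(U)| ≤ 1715`.
-/

set_option autoImplicit false
set_option maxRecDepth 100000

namespace Cfsg.Agent.H348.PPD.HeCent

open Subgroup
open Cfsg.Spor Cfsg.Spor.He Cfsg.Agent.SporadicB.HePerm
open Cfsg.Agent.FixBN.HeStab Cfsg.Agent.KFacts.He.Lv Cfsg.Agent.CpAutHe.Cnt Cfsg.Agent.CpAutHe.Bound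
open Cfsg.Agent.CpAutHe.Seven

def XU : List Gen := [.b, .d, .e, .c, .b, .d, .e, .c, .b, .d, .e, .c]
def XV : List Gen := [.f, .d, .c, .d, .c, .d, .f, .b, .d, .e, .c, .b, .d, .e, .c, .b, .d, .e, .c, .f, .d, .c, .d, .c, .d, .f]
def XW : List Gen := [.b, .d, .e, .c, .b, .d, .e, .c, .b, .d, .e, .c, .f, .d, .c, .d, .c, .d, .f, .b, .d, .e, .c, .b,
  .d, .e, .c, .b, .d, .e, .c, .f, .d, .c, .d, .c, .d, .f, .c, .e, .d, .b, .c, .e, .d, .b, .c, .e, .d, .b, .f, .d, .c,
  .d, .c, .d, .f, .c, .e, .d, .b, .c, .e, .d, .b, .c, .e, .d, .b, .f, .d, .c, .d, .c, .d, .f]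
def XG : List Gen := [.g, .f, .d, .c, .d, .e, .d, .b, .c, .d, .f, .b, .c, .d, .c]
def XT : List Gen := [.a, .c, .b, .d, .c, .d, .c, .d, .b, .c, .d, .c]

theorem w1 : chkB (pw XU 7) [] = true := by decide +kernel
theorem w2 : chkB (XU ++ XV) (XW ++ (XV ++ XU)) = true := by decide +kernel
theorem w3 : chkB (XU ++ XW) (XW ++ XU) = true := by decide +kernel
theorem w5 : chkB (XV ++ XW) (XW ++ XV) = true := by decide +kernel
theorem w6 : Nat.beq (act XW 0) 0 = false := by decide +kernel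
theorem w7 : chkB (XG ++ XW) (XU ++ XG) = true := by decide +kernel
theorem w8 : chkB (XT ++ XU) (pw XU 3 ++ XT) = true := by decide +kernel

noncomputable def U : Cfsg.Spor.He := wd XU
noncomputable def V : Cfsg.Spor.He := wd XV
noncomputable def W : Cfsg.Spor.He := wd XW

theorem U_pow : U ^ 7 = 1 := by
  have h := eq_of_chkB w1
  rwa [wd_pw, wd_nil] at h

theorem UV : U * V = W * (V * U) := by
  have h := eq_of_chkB w2
  rwa [wd_append, wd_append, wd_append] at h

theorem UW : U * W = W * U := by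
  have h := eq_of_chkB w3
  rwa [wd_append, wd_append] at h

theorem VW : V * W = W * V := by
  have h := eq_of_chkB w5
  rwa [wd_append, wd_append] at h

theorem W_ne : W ≠ 1 := ne_one_of_act 0 w6

theorem GW : wd XG * W * (wd XG)⁻¹ = U := by
  have h := eq_of_chkB w7
  rw [wd_append, wd_append] at h
  change wd XG * W = U * wd XG at h
  rw [h]
  group

theorem TU : wd XT * U * (wd XT)⁻¹ = U ^ 3 := by
  have h := eq_of_chkB w8
  rw [wd_append, wd_append, wd_pw] at h
  change wd XT * U = U ^ 3 * wd XT at h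
  rw [h]
  group

theorem U_ne : U ≠ 1 := by
  intro h
  have h1 := GW
  rw [h, mul_inv_eq_one] at h1
  exact W_ne (mul_left_cancel (h1.trans (mul_one _).symm))

theorem order_U : orderOf U = 7 := by
  have : Fact (Nat.Prime 7) := ⟨by norm_num⟩
  exact orderOf_eq_prime U_pow U_ne

theorem W_pow : W ^ 7 = 1 := by
  have h1 : (wd XG * W * (wd XG)⁻¹) ^ 7 = 1 := by rw [GW, U_pow]
  rw [conj_pow, mul_inv_eq_one] at h1
  exact mul_left_cancel (h1.trans (mul_one _).symm)

/-! ### The centralizer of `U` -/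

theorem cU0 : cnt 2058 (tst XU [] [1] 0) = 686 := by decide +kernel
theorem sU0 : ([0, 11, 2, 5].all fun a => elemN a (nx XU [] 0)) = true := by decide +kernel
theorem cU1 : cnt 2058 (tst XU [0, 11, 2, 5] [1] 16) = 3 := by decide +kernel
theorem sU1 : ([0, 1, 3, 1292, 822, 2, 16].all fun a => elemN a (nx XU (nx XU [] 0) 16)) = true := by decide +kernel
theorem dU32 : cnt 2058 (tst XU [3, 1292, 822] [1] 32) = 1 := by decide +kernel
theorem dU8 : cnt 2058 (tst XU [0, 2, 16] [3] 8) = 1 := by decide +kernel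

theorem card_le_2058 : Nat.card ↥(centralizer ({wd XU} : Set Cfsg.Spor.He)) ≤ 686 * (3 * 1) := by
  have hC : ∀ c ∈ centralizer ({wd XU} : Set Cfsg.Spor.He), c * wd XU = wd XU * c := fun c hc =>
    mem_centralizer_singleton_iff.1 hc
  have hC1 : ∀ c ∈ st (centralizer ({wd XU} : Set Cfsg.Spor.He)) 0, c * wd XU = wd XU * c := fun c hc =>
    hC c (mem_st.1 hc).1
  have hC2 : ∀ c ∈ st (st (centralizer ({wd XU} : Set Cfsg.Spor.He)) 0) 16, c * wd XU = wd XU * c := fun c hc =>
    hC1 c (mem_st.1 hc).1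
  have hF1 : ∀ c ∈ st (centralizer ({wd XU} : Set Cfsg.Spor.He)) 0, ∀ f ∈ nx XU [] 0, Fx c f := fun c hc =>
    fx_nx (p := 0) (hC1 c hc) (fun _ hf => absurd hf List.not_mem_nil) (mem_st.1 hc).2
  have hF2 : ∀ c ∈ st (st (centralizer ({wd XU} : Set Cfsg.Spor.He)) 0) 16, ∀ f ∈ nx XU (nx XU [] 0) 16, Fx c f :=
    fun c hc => fx_nx (p := 16) (hC2 c hc) (hF1 c (mem_st.1 hc).1) (mem_st.1 hc).2
  have hs := sub_of_chk sU1
  have h2 : Nat.card ↥(st (st (centralizer ({wd XU} : Set Cfsg.Spor.He)) 0) 16) ≤ 1 := by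
    rw [Subgroup.card_le_one_iff_eq_bot, eq_bot_iff_forall]
    intro c hc
    have k := fix_of_one (hC2 c hc) (hF2 c hc)
    have e0 : phi c 0 = 0 := by
      obtain ⟨_, h⟩ := hF2 c hc 0 (hs (by simp))
      exact h
    have e1 : phi c 1 = 1 := by
      obtain ⟨_, h⟩ := hF2 c hc 1 (hs (by simp))
      exact h
    have e2 : phi c 32 = 32 := k 32 [3, 1292, 822] [1] (fun a ha => hs (by revert ha; revert a; decide)) dU32
    have e3 : phi c 8 = 8 := k 8 [0, 2, 16] [3] (fun a ha => hs (by revert ha; revert a; decide)) dU8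
    have e : ∀ i, phi (1 : Cfsg.Spor.He) i = i := fun i => by rw [map_one]; rfl
    apply eq_of_base
    · rw [e0, e]
    · rw [e1, e]
    · rw [e2, e]
    · rw [e3, e]
  have h1 : Nat.card ↥(st (centralizer ({wd XU} : Set Cfsg.Spor.He)) 0) ≤ 3 * 1 :=
    step hC1 hF1 16 _ [1] (sub_of_chk sU0) cU1 h2
  exact step (F := []) hC (fun _ _ f hf => absurd hf List.not_mem_nil) 0 [] [1] (fun _ h => h) cU0 h1

/-! ### A nonabelian subgroup of order 343 of `C(W)` -/

def XH : List Gen := [.b, .a, .e, .d, .c, .b, .g, .d, .c, .d, .b, .c, .d, .g, .d, .b]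

theorem w9 : chkB (XH ++ XW) (XV ++ XH) = true := by decide +kernel

theorem HW : wd XH * W * (wd XH)⁻¹ = V := by
  have h := eq_of_chkB w9
  rw [wd_append, wd_append] at h
  change wd XH * W = V * wd XH at h
  rw [h]
  group

theorem V_pow : V ^ 7 = 1 := by
  rw [← HW, conj_pow, W_pow, mul_one, mul_inv_cancel]

theorem dvd_card_W : 343 ∣ Nat.card ↥(centralizer ({W} : Set Cfsg.Spor.He)) := by
  have hp : Fact (Nat.Prime 7) := ⟨by norm_num⟩
  have hfin : Finite Cfsg.Spor.He := finite_he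
  have hup : Cfsg.Agent.H749.PEl 7 U := ⟨1, by rw [pow_one]; exact U_pow⟩
  have hwp : Cfsg.Agent.H749.PEl 7 W := ⟨1, by rw [pow_one]; exact W_pow⟩
  have hvp : Cfsg.Agent.H749.PEl 7 V := ⟨1, by rw [pow_one]; exact V_pow⟩
  have hab : U * V ≠ V * U := by
    intro h5
    apply W_ne
    have h6 := UV
    rw [h5] at h6
    exact (mul_eq_right.1 h6.symm)
  let A := closure ({U, W} : Set Cfsg.Spor.He)
  have hA : IsPGroup 7 A := Cfsg.Agent.H749.isPGroup_pair hup hwp UW
  have hvA : V ∈ normalizer (A : Set Cfsg.Spor.He) := by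
    refine Cfsg.Agent.Transfer.FusionBasic.mem_normalizer_of_conj_mem fun x hx => ?_
    have h5 : A ≤ A.comap (MulAut.conj V).toMonoidHom := by
      refine (closure_le _).2 ?_
      rintro y (rfl | rfl)
      · show V * U * V⁻¹ ∈ A
        have h6 : V * U * V⁻¹ = W⁻¹ * U := by
          rw [eq_inv_mul_iff_mul_eq, ← mul_assoc, ← UV, mul_inv_cancel_right]
        rw [h6]
        exact mul_mem (inv_mem (subset_closure (by simp))) (subset_closure (by simp))
      · show V * W * V⁻¹ ∈ A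
        rw [VW, mul_inv_cancel_right]
        exact subset_closure (by simp)
    exact h5 hx
  have hQ : IsPGroup 7 (A ⊔ zpowers V : Subgroup Cfsg.Spor.He) :=
    hA.to_sup_of_normal_left' (Cfsg.Agent.H749.isPGroup_zpowers hvp) (zpowers_le.2 hvA)
  have h1 : 7 ^ 3 ≤ Nat.card (A ⊔ zpowers V : Subgroup Cfsg.Spor.He) :=
    Cfsg.Agent.H415.Heis.card_ge hQ (mem_sup_left (subset_closure (by simp))) (mem_sup_right (mem_zpowers V)) hab
  obtain ⟨n, hn⟩ := IsPGroup.iff_card.1 hQ
  rw [hn] at h1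
  have h2 : 3 ≤ n := (Nat.pow_le_pow_iff_right (by norm_num)).1 h1
  have h3 : A ⊔ zpowers V ≤ centralizer ({W} : Set Cfsg.Spor.He) := by
    refine sup_le ((closure_le _).2 ?_) (zpowers_le.2 (mem_centralizer_singleton_iff.2 VW))
    rintro y (rfl | rfl)
    · exact mem_centralizer_singleton_iff.2 UW
    · exact mem_centralizer_singleton_iff.2 rfl
  have h4 := card_dvd_of_le h3
  rw [hn] at h4
  exact (show 343 ∣ 7 ^ n from (pow_dvd_pow 7 h2)).trans h4

theorem card_cent_U : Nat.card ↥(centralizer ({U} : Set Cfsg.Spor.He)) ≤ 1715 := by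
  have hfin : Finite Cfsg.Spor.He := finite_he
  have h1 : 343 ∣ Nat.card ↥(centralizer ({U} : Set Cfsg.Spor.He)) := by
    rw [← GW, card_cent_conj]
    exact dvd_card_W
  have h2 : Nat.card ↥(centralizer ({U} : Set Cfsg.Spor.He)) ≤ 2058 := card_le_2058
  obtain ⟨k, hk⟩ := h1
  by_contra h
  have h3 : k = 6 := by omega
  have h4 := card_le order_U (by rw [hk, h3]; decide)
  omega

/-! ### Conjugacy -/

theorem conj_three (n : ℕ) : IsConj (U ^ n) (U ^ (3 * n)) := by
  rw [isConj_iff]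
  refine ⟨wd XT, ?_⟩
  rw [← conj_pow, TU, ← pow_mul]

theorem U_mod (n : ℕ) : U ^ n = U ^ (n % 7) := by
  conv_lhs => rw [← Nat.div_add_mod n 7]
  rw [pow_add, pow_mul, U_pow, one_pow, one_mul]

theorem W_mod (n : ℕ) : W ^ n = W ^ (n % 7) := by
  conv_lhs => rw [← Nat.div_add_mod n 7]
  rw [pow_add, pow_mul, W_pow, one_pow, one_mul]

theorem conj_pow_U {n : ℕ} (hn : n % 7 ≠ 0) : IsConj U (U ^ n) := by
  have c1 : IsConj U (U ^ 3) := by simpa using conj_three 1
  have c3 : IsConj (U ^ 3) (U ^ 2) := by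
    have := conj_three 3
    rwa [U_mod (3 * 3)] at this
  have c2 : IsConj (U ^ 2) (U ^ 6) := conj_three 2
  have c6 : IsConj (U ^ 6) (U ^ 4) := by
    have := conj_three 6
    rwa [U_mod (3 * 6)] at this
  have c4 : IsConj (U ^ 4) (U ^ 5) := by
    have := conj_three 4
    rwa [U_mod (3 * 4)] at this
  rw [U_mod n]
  have h : n % 7 < 7 := Nat.mod_lt _ (by norm_num)
  generalize n % 7 = k at hn h
  interval_cases k
  · exact absurd rfl hn
  · rw [pow_one]
  · exact c1.trans c3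
  · exact c1
  · exact ((c1.trans c3).trans c2).trans c6
  · exact (((c1.trans c3).trans c2).trans c6).trans c4
  · exact (c1.trans c3).trans c2

theorem VUV (k : ℕ) : V⁻¹ ^ k * U * V ^ k = U * W ^ k := by
  induction k with
  | zero => simp
  | succ k ih =>
    have h1 : V⁻¹ * U * V = U * W := by
      rw [mul_assoc, UV, ← mul_assoc W, ← VW, mul_assoc V W, inv_mul_cancel_left, UW]
    have h2 : V⁻¹ * W ^ k * V = W ^ k := by
      have h3 : Commute V (W ^ k) := (show Commute V W from VW).pow_right k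
      rw [mul_assoc, ← h3.eq, inv_mul_cancel_left]
    calc V⁻¹ ^ (k + 1) * U * V ^ (k + 1) = V⁻¹ * (V⁻¹ ^ k * U * V ^ k) * V := by rw [pow_succ', pow_succ]; group
      _ = V⁻¹ * (U * W ^ k) * V := by rw [ih]
      _ = (V⁻¹ * U * V) * (V⁻¹ * W ^ k * V) := by group
      _ = U * W * W ^ k := by rw [h1, h2]
      _ = U * W ^ (k + 1) := by rw [pow_succ']; group

theorem conj_E {i j : ℕ} (h : ¬ (i % 7 = 0 ∧ j % 7 = 0)) : IsConj U (U ^ i * W ^ j) := by
  by_cases hi : i % 7 = 0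
  · have hj : j % 7 ≠ 0 := fun hj => h ⟨hi, hj⟩
    rw [U_mod i, hi, pow_zero, one_mul]
    have h1 : IsConj (U ^ j) (W ^ j) := by
      rw [isConj_iff]
      refine ⟨(wd XG)⁻¹, ?_⟩
      rw [← conj_pow, ← GW]
      congr 1
      group
    exact (conj_pow_U hj).trans h1
  · refine (conj_pow_U hi).trans ?_
    rw [isConj_iff]
    refine ⟨V⁻¹ ^ (i ^ 5 * j), ?_⟩
    have h1 : (V⁻¹ ^ (i ^ 5 * j))⁻¹ = V ^ (i ^ 5 * j) := by simp
    rw [← conj_pow, h1, VUV, (show Commute U (W ^ (i ^ 5 * j)) from (show Commute U W from UW).pow_right _).mul_pow,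
      ← pow_mul]
    congr 1
    rw [W_mod, W_mod j]
    congr 1
    have h2 : i ^ 5 * j * i = i ^ 6 * j := by ring
    have h3 : i ^ 6 % 7 = 1 := by
      rw [Nat.pow_mod]
      have h4 : i % 7 < 7 := Nat.mod_lt _ (by norm_num)
      generalize i % 7 = k at hi h4
      interval_cases k
      · exact absurd rfl hi
      all_goals norm_num
    rw [h2, Nat.mul_mod, h3, one_mul, Nat.mod_mod]

end Cfsg.Agent.H348.PPD.HeCent
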