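import Cfsg.Agent.H686.CharKit
import Cfsg.Agent.SmallSimple.SelfCentSum
import Cfsg.Agent.H717.SmallClass

/-!
# Irreducible characters of `A₅` (helper348)

`degree_three` : two different irreducible characters of the same degree have degree 3.
-/

set_option autoImplicit false

open scoped ComplexConjugate
open Cfsg Subgroup Cfsg.Agent.Characters.Core

namespace Cfsg.Agent.H348.PPD.AltFive

universe u

theorem squares : ∀ a ∈ Finset.range 8, ∀ b ∈ Finset.range 8, ∀ f ∈ Finset.range 8, 2 ≤ a → 2 ≤ b → 2 ≤ f →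
    a ^ 2 + b ^ 2 + 2 * f ^ 2 = 59 → f = 3 := by decide +kernel

theorem card_conj_congr {G H : Type*} [Group G] [Group H] (e : G ≃* H) :
    Nat.card (ConjClasses G) = Nat.card (ConjClasses H) := by
  refine Nat.card_congr ⟨ConjClasses.map e.toMonoidHom, ConjClasses.map e.symm.toMonoidHom, ?_, ?_⟩
  · rintro ⟨a⟩
    change ConjClasses.mk (e.symm (e a)) = ConjClasses.mk a
    rw [MulEquiv.symm_apply_apply]
  · rintro ⟨a⟩
    change ConjClasses.mk (e (e.symm a)) = ConjClasses.mk a
    rw [MulEquiv.apply_symm_apply]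

theorem degree_three {Q : Type u} [Group Q] [Finite Q] (e : Q ≃* alternatingGroup (Fin 5))
    {η η' : IrrCharacter Q} (hne : η ≠ η') (h1 : (η : Q → ℂ) 1 = (η' : Q → ℂ) 1) : (η : Q → ℂ) 1 = 3 := by
  classical
  have hnt : Nontrivial Q := e.toEquiv.nontrivial
  have hs : IsSimpleGroup Q := by
    have : IsSimpleGroup (alternatingGroup (Fin 5)) := alternatingGroup.isSimpleGroup_five
    exact IsSimpleGroup.isSimpleGroup_of_surjective e.symm.toMonoidHom e.symm.surjective
  have hcard : Nat.card Q = 60 := by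
    rw [Nat.card_congr e.toEquiv, Nat.card_eq_fintype_card]
    decide +kernel
  have hnp : ¬ (Nat.card Q).Prime := by rw [hcard]; norm_num
  have := finite_irr (G := Q)
  have := Fintype.ofFinite (IrrCharacter Q)
  have hirr : Fintype.card (IrrCharacter Q) = 5 := by
    rw [← Nat.card_eq_fintype_card, card_irr, card_conj_congr e, Cfsg.Agent.H717.SmallClass.conj_alt_five]
  have hn : ∀ χ : IrrCharacter Q, ∃ n : ℕ, 0 < n ∧ (χ : Q → ℂ) 1 = n := fun χ => by
    obtain ⟨n, h1, h2⟩ := isIrr_apply_one χ.2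
    exact ⟨n, h1, h2⟩
  choose n hn0 hn1 using hn
  have hsum : ∑ χ : IrrCharacter Q, n χ ^ 2 = 60 := by
    have h2 := Cfsg.Agent.H686.CharKit.sum_normSq (G := Q) 1
    have h3 : Nat.card (centralizer ({1} : Set Q)) = 60 := by
      rw [← hcard]
      have : centralizer ({1} : Set Q) = ⊤ := by
        rw [eq_top_iff]
        intro g _
        rw [mem_centralizer_singleton_iff]
        simp
      rw [this, card_top]
    rw [h3] at h2
    have h4 : ∀ χ : IrrCharacter Q, Complex.normSq ((χ : Q → ℂ) 1) = ((n χ ^ 2 : ℕ) : ℝ) := by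
      intro χ
      rw [hn1, Complex.normSq_natCast]
      push_cast
      ring
    rw [Finset.sum_congr rfl (fun χ _ => h4 χ), ← Nat.cast_sum] at h2
    exact_mod_cast h2
  let one' : IrrCharacter Q := ⟨1, isIrr_one⟩
  have honeq : ∀ χ : IrrCharacter Q, n χ = 1 → χ = one' := by
    intro χ h
    apply Subtype.ext
    apply Cfsg.Agent.SmallSimple.SelfCentSum.eq_one_of_apply_one hnp χ.2
    rw [hn1, h, Nat.cast_one]
  have hn_one : n one' = 1 := by
    have h2 := hn1 one'
    have h3 : (one' : Q → ℂ) 1 = 1 := rfl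
    rw [h3] at h2
    exact_mod_cast h2.symm
  have hnn : n η = n η' := by
    rw [hn1, hn1] at h1
    exact_mod_cast h1
  have hη : η ≠ one' := by
    intro h
    rw [h, hn_one] at hnn
    exact hne (h.trans (honeq η' hnn.symm).symm)
  have hη' : η' ≠ one' := by
    intro h
    rw [h, hn_one] at hnn
    exact hne ((honeq η hnn).trans h.symm)
  have hge : ∀ χ : IrrCharacter Q, χ ≠ one' → 2 ≤ n χ := by
    intro χ h
    have := hn0 χ
    by_contra h2
    exact h (honeq χ (by omega))
  let T : Finset (IrrCharacter Q) := {one', η, η'}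
  have hT : T.card = 3 := by
    rw [Finset.card_insert_of_notMem, Finset.card_insert_of_notMem, Finset.card_singleton]
    · simpa using hne
    · simp only [Finset.mem_insert, Finset.mem_singleton, not_or]
      exact ⟨hη.symm, hη'.symm⟩
  have hTc : Tᶜ.card = 2 := by
    rw [Finset.card_compl, hirr, hT]
  obtain ⟨a, b, hab, hTab⟩ := Finset.card_eq_two.1 hTc
  have hsplit : ∑ χ ∈ T, n χ ^ 2 + ∑ χ ∈ Tᶜ, n χ ^ 2 = 60 := by
    rw [Finset.sum_add_sum_compl, hsum]
  have hsT : ∑ χ ∈ T, n χ ^ 2 = 1 + (n η ^ 2 + n η' ^ 2) := by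
    rw [Finset.sum_insert, Finset.sum_insert, Finset.sum_singleton, hn_one, one_pow]
    · simpa using hne
    · simp only [Finset.mem_insert, Finset.mem_singleton, not_or]
      exact ⟨hη.symm, hη'.symm⟩
  rw [hsT, hTab, Finset.sum_pair hab, ← hnn] at hsplit
  have ha : a ∉ T := by
    rw [← Finset.mem_compl, hTab]; simp
  have hb : b ∉ T := by
    rw [← Finset.mem_compl, hTab]; simp
  have ha1 : a ≠ one' := fun h => ha (by rw [h]; simp [T])
  have hb1 : b ≠ one' := fun h => hb (by rw [h]; simp [T])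
  have ha2 := hge a ha1
  have hb2 := hge b hb1
  have hf2 := hge η hη
  have key := squares (n a) (Finset.mem_range.2 (by nlinarith)) (n b) (Finset.mem_range.2 (by nlinarith)) (n η)
    (Finset.mem_range.2 (by nlinarith)) ha2 hb2 hf2 (by omega)
  rw [hn1, key]
  norm_num

end Cfsg.Agent.H348.PPD.AltFive
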