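import Cfsg.Agent.H348.PPD.Key
import Cfsg.Agent.H348.PPD.Dich
import Cfsg.Agent.H29.MinExt

/-!
# Characters of prime power degree and automorphisms, groups with an outer automorphism group of order two (helper348)

* `Bad S d` : some irreducible character of degree `d` of `S` is not invariant in `MulAut S`;
* `extPP_or_bad` : a character of prime power degree extends to `MulAut S`, or `Bad S d`, `d` a prime power;
* `Bad.one`, `Bad.two` : congruences for `d` modulo primes dividing `|S|` once.
-/

set_option autoImplicit false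

open scoped ComplexConjugate
open Cfsg Subgroup
open Cfsg.Agent.Characters.Core Cfsg.Agent.H794.PP Cfsg.Agent.H29.MinExt Cfsg.Agent.H681.DegBasic

namespace Cfsg.Agent.H348.PPD.Aut

universe u

variable {S : Type u} [Group S]

/-- An irreducible character of degree `d` which is not invariant. -/
structure BadData (S : Type u) [Group S] (d : ℕ) where
  ψ : IrrCharacter (MulAut S)
  χ : IrrCharacter S
  deg : (χ : S → ℂ) 1 = d
  zero : ∀ α : MulAut S, α ∉ (MulAut.conj : S →* MulAut S).range → (ψ : MulAut S → ℂ) α = 0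
  val : ∀ α : MulAut S, α ∉ (MulAut.conj : S →* MulAut S).range → ∀ s : S,
    (ψ : MulAut S → ℂ) (MulAut.conj s) = (χ : S → ℂ) s + (χ : S → ℂ) (α s)
  ne : ∀ α : MulAut S, α ∉ (MulAut.conj : S →* MulAut S).range → (χ : S → ℂ) ∘ α ≠ (χ : S → ℂ)

def Bad (S : Type u) [Group S] (d : ℕ) : Prop := Nonempty (BadData S d)

theorem conj_injective (hc : center S = ⊥) : Function.Injective (MulAut.conj : S →* MulAut S) := by
  rw [← MonoidHom.ker_eq_bot_iff, eq_bot_iff]
  intro s hs
  rw [← hc, mem_center_iff]
  intro g
  have h1 : MulAut.conj s g = g := by rw [MonoidHom.mem_ker.1 hs]; rfl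
  rw [MulAut.conj_apply] at h1
  calc g * s = s * g * s⁻¹ * s := by rw [h1]
    _ = s * g := by group

theorem conj_apply_conj (α : MulAut S) (s : S) : α * MulAut.conj s * α⁻¹ = MulAut.conj (α s) := by
  ext x
  simp [MulAut.conj_apply]

instance normal_range_conj : ((MulAut.conj : S →* MulAut S).range).Normal := ⟨by
  rintro _ ⟨s, rfl⟩ α
  exact ⟨α s, (conj_apply_conj α s).symm⟩⟩

/-- A character of prime power degree extends to the automorphism group or is not invariant. -/
theorem extPP_or_bad [Finite S] (hc : center S = ⊥) (hidx : (MulAut.conj : S →* MulAut S).range.index = 2)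
    (h : HasPP S) : ExtPP S ∨ ∃ d, IsPrimePow d ∧ Bad S d := by
  obtain ⟨d, hd, hpp⟩ := h
  obtain ⟨χ, hχ, h1⟩ := mem_charDegrees.1 hd
  let e : S ≃* (MulAut.conj : S →* MulAut S).range := MonoidHom.ofInjective (conj_injective hc)
  have he : ∀ s, ((e s : (MulAut.conj : S →* MulAut S).range) : MulAut S) = MulAut.conj s := fun s => rfl
  have hχ' : IsIrrCharacter (MulAut.conj : S →* MulAut S).range (χ ∘ e.symm) :=
    isIrr_comp (e.symm : (MulAut.conj : S →* MulAut S).range →* S) e.symm.surjective hχ
  rcases Dich.dich _ hidx hχ' with ⟨ψ, hψ, h2⟩ | ⟨ψ, hψ, h0, h2⟩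
  · left
    have h3 : (fun s => ψ (MulAut.conj s)) = χ := by
      funext s
      rw [← he s, h2]
      simp
    refine ⟨ψ, isIrr_isCharacter hψ, by rw [h3]; exact hχ, d, hpp, ?_⟩
    have := congrFun h3 1
    simp only [map_one] at this
    rw [this, h1]
  · right
    refine ⟨d, hpp, ⟨⟨ψ, hψ⟩, ⟨χ, hχ⟩, h1, h0, fun α hα s => ?_, fun α hα hcon => ?_⟩⟩
    · have h3 := (h2 α hα).1 (e s)
      have h4 : (MulAut.conjNormal α : MulAut (MulAut.conj : S →* MulAut S).range) (e s) = e (α s) := by
        apply Subtype.ext
        rw [MulAut.conjNormal_apply, he, he, conj_apply_conj]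
      rw [h4, he] at h3
      simpa using h3
    · apply (h2 α hα).2
      funext n
      obtain ⟨s, rfl⟩ := e.surjective n
      have h4 : (MulAut.conjNormal α : MulAut (MulAut.conj : S →* MulAut S).range) (e s) = e (α s) := by
        apply Subtype.ext
        rw [MulAut.conjNormal_apply, he, he, conj_apply_conj]
      rw [Function.comp_apply, h4]
      simp only [Function.comp_apply, MulEquiv.symm_apply_apply]
      exact congrFun hcon s

end Cfsg.Agent.H348.PPD.Aut
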