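import Cfsg.Agent.H348.PPD.Key
import Cfsg.Agent.UGT.A7.Five
import Cfsg.Agent.H655.Basic

/-!
# Subgroups of prime order whose centralizer in a subgroup of index two is `P × A₅` (helper348)

`main` : `θ ∈ Irr(K)` under an irreducible character vanishing off `N` is stable in `N(P)` and vanishes off `N`; the
elements of `K` outside of `N` exchange the classes of elements of order 5.
-/

set_option autoImplicit false

open scoped ComplexConjugate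
open Cfsg Subgroup Equiv
open Cfsg.Agent.Characters.Core Cfsg.Agent.Characters.Linear
open Cfsg.Agent.SmallSimple.ThetaSetup Cfsg.Agent.SmallSimple.ThetaOrtho
open Cfsg.Agent.H348.PPD.Part Cfsg.Agent.H348.PPD.Key

namespace Cfsg.Agent.H348.PPD.KFive

universe u

/-! ### `A₅` -/

theorem a5_center : ∀ a : alternatingGroup (Fin 5), (∀ b, a * b = b * a) → a = 1 := by decide +kernel

theorem a5_pow : ∀ a : alternatingGroup (Fin 5), a ^ 30 = 1 := by decide +kernel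

theorem a5_swap : ∀ y : alternatingGroup (Fin 5), ∃ w : alternatingGroup (Fin 5),
    swap 0 1 * (y : Perm (Fin 5)) * (swap 0 1)⁻¹ = (w : Perm (Fin 5)) * (y : Perm (Fin 5)) ^ 7 * (w : Perm (Fin 5))⁻¹ := by
  decide +kernel

theorem a5_odd {σ : Perm (Fin 5)} (hσ : σ ∉ alternatingGroup (Fin 5)) (y : alternatingGroup (Fin 5)) :
    ∃ w : alternatingGroup (Fin 5), σ * (y : Perm (Fin 5)) * σ⁻¹ = (w : Perm (Fin 5)) * (y : Perm (Fin 5)) ^ 7 * (w : Perm (Fin 5))⁻¹ := by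
  obtain ⟨w, hw⟩ := a5_swap y
  have h1 : σ * (swap 0 1)⁻¹ ∈ alternatingGroup (Fin 5) := by
    rw [Perm.mem_alternatingGroup] at hσ ⊢
    rw [map_mul, map_inv, Perm.sign_swap (by decide)]
    rcases Int.units_eq_one_or (Perm.sign σ) with h | h
    · exact absurd h hσ
    · rw [h]; decide
  refine ⟨⟨_, h1⟩ * w, ?_⟩
  have h2 : σ * (y : Perm (Fin 5)) * σ⁻¹ =
      (σ * (swap 0 1)⁻¹) * (swap 0 1 * (y : Perm (Fin 5)) * (swap 0 1)⁻¹) * (σ * (swap 0 1)⁻¹)⁻¹ := by group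
  rw [h2, hw]
  simp only [Subgroup.coe_mul]
  group

/-! ### Conjugation on `M ≅ A₅` -/

section

variable {G : Type u} [Group G] {M : Subgroup G} (f : M ≃* alternatingGroup (Fin 5))

include f in
theorem center_triv {z : G} (hz : z ∈ M) (h : ∀ y ∈ M, z * y = y * z) : z = 1 := by
  have h1 : f ⟨z, hz⟩ = 1 := a5_center _ fun b => by
    have h2 := h _ (f.symm b).2
    have h3 : (⟨z, hz⟩ : M) * f.symm b = f.symm b * ⟨z, hz⟩ := Subtype.ext h2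
    have h4 := congrArg f h3
    rwa [map_mul, map_mul, MulEquiv.apply_symm_apply] at h4
  have h2 : (⟨z, hz⟩ : M) = 1 := f.injective (by rw [h1, map_one])
  exact congrArg Subtype.val h2

theorem perm_of {g : G} (hg : ∀ y ∈ M, g * y * g⁻¹ ∈ M) (hg' : ∀ y ∈ M, g⁻¹ * y * g ∈ M) :
    ∃ σ : Perm (Fin 5), ∀ (y : G) (hy : y ∈ M), (f ⟨g * y * g⁻¹, hg y hy⟩ : Perm (Fin 5)) =
      σ * (f ⟨y, hy⟩ : Perm (Fin 5)) * σ⁻¹ := by
  let ν : MulAut M :=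
    { toFun := fun y => ⟨g * y * g⁻¹, hg y y.2⟩
      invFun := fun y => ⟨g⁻¹ * y * g, hg' y y.2⟩
      left_inv := fun y => Subtype.ext (by simp [mul_assoc])
      right_inv := fun y => Subtype.ext (by simp [mul_assoc])
      map_mul' := fun y z => Subtype.ext (by simp [mul_assoc]) }
  let F : MulAut (alternatingGroup (Fin 5)) := (f.symm.trans ν).trans f
  obtain ⟨σ, hσ⟩ := Cfsg.Agent.UGT.A7.Dg.exists_conj F
  refine ⟨σ, fun y hy => ?_⟩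
  have h1 := hσ (f ⟨y, hy⟩)
  have h2 : F (f ⟨y, hy⟩) = f ⟨g * y * g⁻¹, hg y hy⟩ := by
    change f (ν (f.symm (f ⟨y, hy⟩))) = _
    rw [MulEquiv.symm_apply_apply]
    rfl
  rw [h2] at h1
  exact h1

theorem eq_of_perm {g : G} (hg : ∀ y ∈ M, g * y * g⁻¹ ∈ M) {σ : Perm (Fin 5)}
    (hσ : ∀ (y : G) (hy : y ∈ M), (f ⟨g * y * g⁻¹, hg y hy⟩ : Perm (Fin 5)) =
      σ * (f ⟨y, hy⟩ : Perm (Fin 5)) * σ⁻¹) (hs : σ ∈ alternatingGroup (Fin 5)) :
    ∃ w ∈ M, ∀ y ∈ M, g * y * g⁻¹ = w * y * w⁻¹ := by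
  refine ⟨(f.symm ⟨σ, hs⟩ : M), (f.symm ⟨σ, hs⟩).2, fun y hy => ?_⟩
  have h1 : (⟨g * y * g⁻¹, hg y hy⟩ : M) = f.symm ⟨σ, hs⟩ * ⟨y, hy⟩ * (f.symm ⟨σ, hs⟩)⁻¹ := by
    apply f.injective
    apply Subtype.ext
    rw [hσ y hy, map_mul, map_mul, map_inv, MulEquiv.apply_symm_apply]
    rfl
  exact congrArg Subtype.val h1

end

/-! ### The main statement -/

variable {G : Type u} [Group G] [Finite G] {p : ℕ} [Fact p.Prime]

theorem sign_hom {N : Subgroup G} [N.Normal] (h2 : N.index = 2) :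
    ∃ l : G →* ℂˣ, (∀ g ∈ N, l g = 1) ∧ ∀ g ∉ N, l g = -1 := by
  classical
  refine ⟨{ toFun := fun g => if g ∈ N then 1 else -1, map_one' := by simp, map_mul' := fun a b => ?_ }, ?_, ?_⟩
  · simp only [Subgroup.mul_mem_iff_of_index_two h2]
    by_cases ha : a ∈ N <;> by_cases hb : b ∈ N <;> simp [ha, hb]
  · intro g hg
    simp [hg]
  · intro g hg
    simp [hg]

theorem main {N : Subgroup G} [N.Normal] (h2 : N.index = 2) {P : Sylow p G} {K : Subgroup G} (D : Dat N P K)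
    (f : (K ⊓ N : Subgroup G) ≃* alternatingGroup (Fin 5)) (hKN : ¬ K ≤ N) {χ : IrrCharacter G}
    (h0 : ∀ g ∉ N, (χ : G → ℂ) g = 0) {θ : IrrCharacter K} (hχ : χ ∈ Over P (θ : K → ℂ)) :
    (∀ n ∈ normalizer ((P : Subgroup G) : Set G), tw (θ : K → ℂ) n = θ) ∧
    (∀ y : K, (y : G) ∉ N → (θ : K → ℂ) y = 0) ∧
    ∀ c ∈ K, c ∉ N → ∀ y ∈ K ⊓ N, ∀ m, m % 30 = 7 → ∃ w ∈ K ⊓ N, c * y * c⁻¹ = w * y ^ m * w⁻¹ := by
  obtain ⟨l, hl1, hl2⟩ := sign_hom h2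
  obtain ⟨c, hcK, hcN⟩ := Set.not_subset.1 hKN
  have hcN' : c ∉ N := hcN
  have hnM : ∀ n ∈ normalizer ((P : Subgroup G) : Set G), ∀ y ∈ K ⊓ N, n * y * n⁻¹ ∈ K ⊓ N := fun n hn y hy =>
    ⟨conj_mem D.hK hn hy.1, ‹N.Normal›.conj_mem y hy.2 n⟩
  have hnM' : ∀ n ∈ normalizer ((P : Subgroup G) : Set G), ∀ y ∈ K ⊓ N, n⁻¹ * y * n ∈ K ⊓ N := fun n hn y hy => by
    have := hnM n⁻¹ (inv_mem hn) y hy
    rwa [inv_inv] at this
  have hkM : ∀ k ∈ K, ∀ y ∈ K ⊓ N, k * y * k⁻¹ ∈ K ⊓ N := fun k hk y hy =>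
    ⟨K.mul_mem (K.mul_mem hk hy.1) (K.inv_mem hk), ‹N.Normal›.conj_mem y hy.2 k⟩
  have hkM' : ∀ k ∈ K, ∀ y ∈ K ⊓ N, k⁻¹ * y * k ∈ K ⊓ N := fun k hk y hy => by
    have := hkM k⁻¹ (inv_mem hk) y hy
    rwa [inv_inv] at this
  obtain ⟨n₀, hn₀, htw⟩ := exists_twist D.hK D.hP l (fun x hx => hl1 x (D.le hx)) hχ (fun g hg => h0 g fun h => hg (hl1 g h))
  -- the centralizer of `M` in `K` is trivial
  have hC : ∀ k ∈ K, (∀ y ∈ K ⊓ N, k * y = y * k) → k = 1 := by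
    intro z hzK hz
    by_contra hz1
    have hzN : z ∉ N := fun h => hz1 (center_triv f ⟨hzK, h⟩ hz)
    have hcen : ∀ y ∈ K, z * y = y * z := by
      intro y hy
      by_cases hyN : y ∈ N
      · exact hz y ⟨hy, hyN⟩
      · have h3 : y * z⁻¹ ∈ K ⊓ N := by
          refine ⟨K.mul_mem hy (K.inv_mem hzK), ?_⟩
          change y * z⁻¹ ∈ N
          rw [Subgroup.mul_mem_iff_of_index_two h2]
          simp [hyN, hzN]
        have h4 := hz _ h3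
        calc z * y = z * (y * z⁻¹) * z := by group
          _ = y * z⁻¹ * z * z := by rw [h4]
          _ = y * z := by group
    have hfix : n₀ * z * n₀⁻¹ = z := by
      have h3 : n₀ * z * n₀⁻¹ ∈ K := conj_mem D.hK hn₀ hzK
      have h4 : n₀ * z * n₀⁻¹ ∉ N := fun h => hzN (by
        have := ‹N.Normal›.conj_mem _ h n₀⁻¹
        rwa [show n₀⁻¹ * (n₀ * z * n₀⁻¹) * n₀⁻¹⁻¹ = z by group] at this)
      have h5 : n₀ * z * n₀⁻¹ * z⁻¹ ∈ K ⊓ N := by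
        refine ⟨K.mul_mem h3 (K.inv_mem hzK), ?_⟩
        change n₀ * z * n₀⁻¹ * z⁻¹ ∈ N
        rw [Subgroup.mul_mem_iff_of_index_two h2]
        simp [h4, hzN]
      have h6 := center_triv f h5 fun y hy => by
        have h7 : (n₀ * z * n₀⁻¹) * y = y * (n₀ * z * n₀⁻¹) := by
          have h8 := hz _ (hnM' n₀ hn₀ y hy)
          calc (n₀ * z * n₀⁻¹) * y = n₀ * (z * (n₀⁻¹ * y * n₀)) * n₀⁻¹ := by group
            _ = n₀ * ((n₀⁻¹ * y * n₀) * z) * n₀⁻¹ := by rw [h8]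
            _ = y * (n₀ * z * n₀⁻¹) := by group
        have h9 : z⁻¹ * y = y * z⁻¹ := by
          have h8 := hz y hy
          calc z⁻¹ * y = z⁻¹ * (y * z) * z⁻¹ := by group
            _ = z⁻¹ * (z * y) * z⁻¹ := by rw [h8]
            _ = y * z⁻¹ := by group
        calc n₀ * z * n₀⁻¹ * z⁻¹ * y = (n₀ * z * n₀⁻¹) * (z⁻¹ * y) := by group
          _ = ((n₀ * z * n₀⁻¹) * y) * z⁻¹ := by rw [h9]; group
          _ = y * (n₀ * z * n₀⁻¹ * z⁻¹) := by rw [h7]; group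
      exact mul_inv_eq_one.1 h6
    have h3 := htw ⟨z, hzK⟩
    rw [tw_apply D.hK _ hn₀, hl2 z hzN] at h3
    have h4 : (⟨n₀ * ((⟨z, hzK⟩ : K) : G) * n₀⁻¹, conj_mem D.hK hn₀ hzK⟩ : K) = ⟨z, hzK⟩ := Subtype.ext hfix
    rw [h4] at h3
    have h5 : (θ : K → ℂ) ⟨z, hzK⟩ = 0 := by
      have h6 : ((-1 : ℂˣ) : ℂ) = -1 := by simp
      rw [h6] at h3
      linear_combination h3 / 2
    have h6 := Cfsg.Agent.H655.Basic.norm_of_mem_center θ.2 (x := ⟨z, hzK⟩) (mem_center_iff.2 fun y =>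
      Subtype.ext (hcen y y.2).symm)
    rw [h5, norm_zero] at h6
    exact isIrr_apply_one_ne_zero θ.2 (norm_eq_zero.1 h6.symm)
  -- elements of `K` outside of `N` induce odd permutations
  have hodd : ∀ k (hk : k ∈ K), k ∉ N → ∀ σ : Perm (Fin 5), (∀ (y : G) (hy : y ∈ K ⊓ N),
      (f ⟨k * y * k⁻¹, hkM k hk y hy⟩ : Perm (Fin 5)) = σ * (f ⟨y, hy⟩ : Perm (Fin 5)) * σ⁻¹) →
      σ ∉ alternatingGroup (Fin 5) := by
    intro k hk hkN σ hσ hs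
    obtain ⟨w, hw, hwy⟩ := eq_of_perm f (hkM k hk) hσ hs
    have h3 := hC (w⁻¹ * k) (K.mul_mem (K.inv_mem hw.1) hk) (fun y hy => by
      have h4 := hwy y hy
      calc w⁻¹ * k * y = w⁻¹ * (k * y * k⁻¹) * k := by group
        _ = w⁻¹ * (w * y * w⁻¹) * k := by rw [h4]
        _ = y * (w⁻¹ * k) := by group)
    have h4 : k = w := (inv_mul_eq_one.1 h3).symm
    exact hkN (h4 ▸ hw.2)
  obtain ⟨σc, hσc⟩ := perm_of f (hkM c hcK) (hkM' c hcK)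
  have hoddc := hodd c hcK hcN' σc hσc
  -- elements of `N(P)` act as elements of `K`
  have hact : ∀ n ∈ normalizer ((P : Subgroup G) : Set G), ∃ k ∈ K, ∀ y ∈ K ⊓ N, n * y * n⁻¹ = k * y * k⁻¹ := by
    intro n hn
    obtain ⟨σ, hσ⟩ := perm_of f (hnM n hn) (hnM' n hn)
    by_cases hs : σ ∈ alternatingGroup (Fin 5)
    · obtain ⟨w, hw, hwy⟩ := eq_of_perm f (hnM n hn) hσ hs
      exact ⟨w, hw.1, hwy⟩
    · have hs' : σ * σc⁻¹ ∈ alternatingGroup (Fin 5) := by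
        rw [Perm.mem_alternatingGroup] at hs hoddc ⊢
        rw [map_mul, map_inv]
        rcases Int.units_eq_one_or (Perm.sign σ) with h | h
        · exact absurd h hs
        · rcases Int.units_eq_one_or (Perm.sign σc) with h' | h'
          · exact absurd h' hoddc
          · rw [h, h']; decide
      have hg : ∀ y ∈ K ⊓ N, (n * c⁻¹) * y * (n * c⁻¹)⁻¹ ∈ K ⊓ N := fun y hy => by
        have := hnM n hn _ (hkM' c hcK y hy)
        rwa [show n * (c⁻¹ * y * c) * n⁻¹ = (n * c⁻¹) * y * (n * c⁻¹)⁻¹ by group] at this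
      obtain ⟨w, hw, hwy⟩ := eq_of_perm f hg (σ := σ * σc⁻¹) (fun y hy => by
        have h3 := hσ _ (hkM' c hcK y hy)
        have h4 := hσc _ (hkM' c hcK y hy)
        have h5 : (⟨c * (c⁻¹ * y * c) * c⁻¹, hkM c hcK _ (hkM' c hcK y hy)⟩ : (K ⊓ N : Subgroup G)) = ⟨y, hy⟩ :=
          Subtype.ext (by group)
        have h6 : (⟨n * (c⁻¹ * y * c) * n⁻¹, hnM n hn _ (hkM' c hcK y hy)⟩ : (K ⊓ N : Subgroup G)) =
            ⟨n * c⁻¹ * y * (n * c⁻¹)⁻¹, hg y hy⟩ := Subtype.ext (by group)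
        rw [h5] at h4
        rw [h6] at h3
        rw [h3, h4]
        group) hs'
      refine ⟨w * c, K.mul_mem hw.1 hcK, fun y hy => ?_⟩
      have h3 := hwy _ (hkM c hcK y hy)
      calc n * y * n⁻¹ = (n * c⁻¹) * (c * y * c⁻¹) * (n * c⁻¹)⁻¹ := by group
        _ = w * (c * y * c⁻¹) * w⁻¹ := h3
        _ = w * c * y * (w * c)⁻¹ := by group
  have hst : ∀ n ∈ normalizer ((P : Subgroup G) : Set G), tw (θ : K → ℂ) n = θ := by
    intro n hn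
    obtain ⟨k, hk, hky⟩ := hact n hn
    have hcomm : ∀ y ∈ K ⊓ N, (k⁻¹ * n) * y = y * (k⁻¹ * n) := fun y hy => by
      have h3 := hky y hy
      calc (k⁻¹ * n) * y = k⁻¹ * (n * y * n⁻¹) * n := by group
        _ = k⁻¹ * (k * y * k⁻¹) * n := by rw [h3]
        _ = y * (k⁻¹ * n) := by group
    have hK : ∀ y ∈ K, n * y * n⁻¹ = k * y * k⁻¹ := by
      intro y hy
      have h4 : (k⁻¹ * n) * y * (k⁻¹ * n)⁻¹ * y⁻¹ = 1 := by
        apply hC
        · have h5 : n * y * n⁻¹ ∈ K := conj_mem D.hK hn hy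
          have h6 : (k⁻¹ * n) * y * (k⁻¹ * n)⁻¹ * y⁻¹ = k⁻¹ * (n * y * n⁻¹) * k * y⁻¹ := by group
          rw [h6]
          exact K.mul_mem (K.mul_mem (K.mul_mem (K.inv_mem hk) h5) hk) (K.inv_mem hy)
        · intro w hw
          have h5 := hcomm _ (hkM' y hy w hw)
          have h6 := hcomm w hw
          calc (k⁻¹ * n) * y * (k⁻¹ * n)⁻¹ * y⁻¹ * w
              = (k⁻¹ * n) * y * ((k⁻¹ * n)⁻¹ * (y⁻¹ * w * y)) * y⁻¹ := by group
            _ = (k⁻¹ * n) * y * ((k⁻¹ * n)⁻¹ * ((y⁻¹ * w * y) * (k⁻¹ * n)) * (k⁻¹ * n)⁻¹) * y⁻¹ := by group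
            _ = (k⁻¹ * n) * y * ((k⁻¹ * n)⁻¹ * ((k⁻¹ * n) * (y⁻¹ * w * y)) * (k⁻¹ * n)⁻¹) * y⁻¹ := by rw [h5]
            _ = ((k⁻¹ * n) * w) * y * (k⁻¹ * n)⁻¹ * y⁻¹ := by group
            _ = (w * (k⁻¹ * n)) * y * (k⁻¹ * n)⁻¹ * y⁻¹ := by rw [h6]
            _ = w * ((k⁻¹ * n) * y * (k⁻¹ * n)⁻¹ * y⁻¹) := by group
      have h5 : (k⁻¹ * n) * y * (k⁻¹ * n)⁻¹ = y := mul_inv_eq_one.1 h4
      calc n * y * n⁻¹ = k * ((k⁻¹ * n) * y * (k⁻¹ * n)⁻¹) * k⁻¹ := by group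
        _ = k * y * k⁻¹ := by rw [h5]
    funext y
    rw [tw_apply D.hK _ hn]
    have h3 : (⟨n * (y : G) * n⁻¹, conj_mem D.hK hn y.2⟩ : K) = ⟨k, hk⟩ * y * ⟨k, hk⟩⁻¹ :=
      Subtype.ext (hK y y.2)
    rw [h3]
    exact isIrr_isClassFunction θ.2 y ⟨k, hk⟩
  refine ⟨hst, ?_, ?_⟩
  · intro y hy
    have h3 := htw y
    rw [hst n₀ hn₀, hl2 y hy] at h3
    have h6 : ((-1 : ℂˣ) : ℂ) = -1 := by simp
    rw [h6] at h3
    linear_combination h3 / 2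
  · intro k hk hkN y hy m hm
    obtain ⟨σ, hσ⟩ := perm_of f (hkM k hk) (hkM' k hk)
    have hs := hodd k hk hkN σ hσ
    obtain ⟨w, hw⟩ := a5_odd hs (f ⟨y, hy⟩)
    refine ⟨(f.symm w : (K ⊓ N : Subgroup G)), (f.symm w).2, ?_⟩
    have hpow : (⟨y, hy⟩ : (K ⊓ N : Subgroup G)) ^ m = ⟨y, hy⟩ ^ 7 := by
      apply f.injective
      rw [map_pow, map_pow]
      have h3 : m = 30 * (m / 30) + 7 := by omega
      rw [h3, pow_add, pow_mul, a5_pow, one_pow, one_mul]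
    have h3 : (⟨k * y * k⁻¹, hkM k hk y hy⟩ : (K ⊓ N : Subgroup G)) =
        f.symm w * ⟨y, hy⟩ ^ m * (f.symm w)⁻¹ := by
      rw [hpow]
      apply f.injective
      apply Subtype.ext
      rw [hσ y hy, hw, map_mul, map_mul, map_pow, map_inv, MulEquiv.apply_symm_apply]
      rfl
    exact congrArg Subtype.val h3

end Cfsg.Agent.H348.PPD.KFive
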