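import Cfsg.Agent.H348.PPD.Part
import Cfsg.Agent.Characters.CCBasic

/-!
# Irreducible characters vanishing off a normal subgroup of index two: congruences (helper348)

`G` finite, `N` normal of index 2, `x ∈ N` of prime order `p`, `p ^ 2 ∤ |G|`, `χ ∈ Irr(G)` vanishing off `N`, of degree
prime to `p`.

* `key_one` : if `|C_N(x)| = p` then `m = (|G| / p) mod p` divides `p - 1`, and `χ(1) = ± 1` modulo `p` if `m = p - 1`;
* `key_two` : the same for `|C_N(x)| = 2 p`, under arithmetical hypotheses.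
-/

set_option autoImplicit false

open scoped ComplexConjugate
open Cfsg Subgroup
open Cfsg.Agent.Characters.Core Cfsg.Agent.Characters.Linear
open Cfsg.Agent.SmallSimple.ThetaSetup Cfsg.Agent.SmallSimple.ThetaOrtho
open Cfsg.Agent.H348.PPD.Part

namespace Cfsg.Agent.H348.PPD.Key

universe u

variable {G : Type u} [Group G] {p : ℕ} [Fact p.Prime]

/-- Elements of odd prime order are in the subgroup of index two. -/
theorem mem_of_orderOf {N : Subgroup G} (h2 : N.index = 2) (hp2 : p ≠ 2) {x : G} (hx : x ^ p = 1) : x ∈ N := by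
  have hp : p.Prime := Fact.out
  obtain ⟨k, hk⟩ := hp.odd_of_ne_two hp2
  have h1 : x ^ (2 * (k + 1)) = x := by
    rw [show 2 * (k + 1) = p + 1 by omega, pow_succ, hx, one_mul]
  rw [← h1, pow_mul]
  exact N.pow_mem (by rw [sq]; exact Subgroup.mul_self_mem_of_index_two h2 x) _

variable [Finite G]

/-- The Sylow subgroup generated by an element. -/
theorem exists_sylow (hsq : ¬ p ^ 2 ∣ Nat.card G) {x : G} (hx : orderOf x = p) :
    ∃ P : Sylow p G, (P : Subgroup G) = zpowers x ∧ Nat.card P = p := by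
  have hp : p.Prime := Fact.out
  have hz : Nat.card (zpowers x) = p := by rw [Nat.card_zpowers, hx]
  obtain ⟨P, hP⟩ := (IsPGroup.of_card (n := 1) (by rw [hz, pow_one]) : IsPGroup p (zpowers x)).exists_le_sylow
  obtain ⟨n, hn⟩ := IsPGroup.iff_card.1 P.isPGroup'
  have h1 : n ≤ 1 := by
    by_contra h
    exact hsq ((pow_dvd_pow p (by omega : 2 ≤ n)).trans (hn ▸ Subgroup.card_subgroup_dvd_card (P : Subgroup G)))
  have h2 := Subgroup.card_le_of_le hP
  rw [hz] at h2
  have h3 : Nat.card (P : Subgroup G) = p := by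
    interval_cases n
    · rw [pow_zero] at hn
      have h4 : Nat.card (P : Subgroup G) = 1 := hn
      have := hp.one_lt
      omega
    · rw [pow_one] at hn
      exact hn
  refine ⟨P, ?_, h3⟩
  symm
  apply Subgroup.eq_of_le_of_card_ge hP
  rw [h3, hz]

/-- Irreducible characters of commutative groups do not vanish. -/
theorem ne_zero_of_comm {A : Type u} [Group A] [Finite A] (hc : ∀ a b : A, a * b = b * a) {θ : A → ℂ}
    (hθ : IsIrrCharacter A θ) : θ 1 = 1 ∧ ∀ a, θ a ≠ 0 := by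
  have h1 := Cfsg.Agent.Characters.CCBasic.irr_apply_one_of_comm hc hθ
  refine ⟨h1, fun a => ?_⟩
  obtain ⟨f, hf⟩ := exists_hom_of_isIrrCharacter hθ h1
  rw [hf]
  exact (f a).ne_zero

/-- Data: a Sylow subgroup of order `p`. -/
structure Dat (N : Subgroup G) (P : Sylow p G) (K : Subgroup G) : Prop where
  hP : Nat.card P = p
  hK : IsComp p (P : Subgroup G) K
  le : (P : Subgroup G) ≤ N

theorem card_inf {N : Subgroup G} {P : Sylow p G} {K : Subgroup G} (D : Dat N P K) :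
    Nat.card (centralizer ((P : Subgroup G) : Set G) ⊓ N : Subgroup G) = p * Nat.card (K ⊓ N : Subgroup G) := by
  have h1 : Nat.card (↥(P : Subgroup G) × ↥(K ⊓ N)) = p * Nat.card (K ⊓ N : Subgroup G) := by
    rw [Nat.card_prod]
    congr 1
    exact D.hP
  rw [← h1]
  apply Nat.card_congr
  symm
  refine Equiv.ofBijective (fun z => ⟨(z.1 : G) * z.2, ?_, ?_⟩) ⟨?_, ?_⟩
  · exact mul_mem (le_centralizer D.hP z.1.2) (D.hK.le z.2.2.1)
  · exact mul_mem (D.le z.1.2) z.2.2.2
  · rintro ⟨a, b⟩ ⟨c, d⟩ h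
    have h2 : (a : G) * b = c * d := congrArg Subtype.val h
    have h3 : (c : G)⁻¹ * a = 1 := by
      apply D.hK.disjoint D.hP
      · exact mul_mem (inv_mem c.2) a.2
      · have h4 : (c : G)⁻¹ * a = d * (b : G)⁻¹ := by
          rw [inv_mul_eq_iff_eq_mul, ← mul_assoc, ← h2]
          group
        rw [h4]
        exact mul_mem d.2.1 (inv_mem b.2.1)
    have h5 : (a : G) = c := (inv_mul_eq_one.1 h3).symm
    have h6 : (b : G) = d := by rw [h5] at h2; exact mul_left_cancel h2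
    exact Prod.ext (Subtype.ext h5) (Subtype.ext h6)
  · rintro ⟨g, hg, hgN⟩
    obtain ⟨x, hx, y, hy, hxy⟩ := D.hK.exists_mul D.hP hg
    refine ⟨⟨⟨x, hx⟩, ⟨y, hy, ?_⟩⟩, Subtype.ext hxy⟩
    have h2 : y = x⁻¹ * g := by rw [← hxy]; group
    rw [h2]
    exact N.mul_mem (N.inv_mem (D.le hx)) hgN

theorem exists_dat {N : Subgroup G} (h2 : N.index = 2) (hp2 : p ≠ 2) (hsq : ¬ p ^ 2 ∣ Nat.card G) {x : G}
    (hx : orderOf x = p) {k : ℕ} (hk : Nat.card (centralizer ({x} : Set G) ⊓ N : Subgroup G) = p * k) :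
    ∃ (P : Sylow p G) (K : Subgroup G), Dat N P K ∧ (P : Subgroup G) = zpowers x ∧
      (Nat.card K = k ∧ K ≤ N ∨ Nat.card K = 2 * k ∧ ¬ K ≤ N) ∧ Nat.card (K ⊓ N : Subgroup G) = k := by
  have hp : p.Prime := Fact.out
  obtain ⟨P, hPx, hP⟩ := exists_sylow hsq hx
  obtain ⟨K, hK⟩ := exists_isComp P hP
  have hle : (P : Subgroup G) ≤ N := by
    rw [hPx, zpowers_le]
    exact mem_of_orderOf h2 hp2 (by rw [← hx]; exact pow_orderOf_eq_one x)
  have hC : centralizer ({x} : Set G) = centralizer ((P : Subgroup G) : Set G) := by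
    rw [hPx, zpowers_eq_closure, centralizer_closure]
  have D : Dat N P K := ⟨hP, hK, hle⟩
  have h3 := card_inf D
  rw [← hC, hk] at h3
  have h4 : Nat.card (K ⊓ N : Subgroup G) = k := (Nat.eq_of_mul_eq_mul_left hp.pos h3).symm
  refine ⟨P, K, D, hPx, ?_, h4⟩
  by_cases hKN : K ≤ N
  · left
    rw [inf_eq_left.2 hKN] at h4
    exact ⟨h4, hKN⟩
  · right
    refine ⟨?_, hKN⟩
    obtain ⟨c, hcK, hcN⟩ := Set.not_subset.1 hKN
    have h5 : (N.subgroupOf K).index = 2 := by
      rw [Subgroup.index_eq_two_iff_exists_notMem_and]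
      refine ⟨⟨c, hcK⟩, fun h => hcN h, fun b => ?_⟩
      by_cases hb : (b : G) ∈ N
      · exact Or.inr hb
      · left
        rw [mem_subgroupOf]
        change (b : G) * c ∈ N
        rw [Subgroup.mul_mem_iff_of_index_two h2]
        simp [hb, show c ∉ N from hcN]
    have h6 := Subgroup.card_mul_index (N.subgroupOf K)
    have h7 : Nat.card (N.subgroupOf K) = Nat.card (K ⊓ N : Subgroup G) := by
      rw [← Subgroup.inf_subgroupOf_left]
      exact Nat.card_congr (subgroupOfEquivOfLe inf_le_left).toEquiv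
    rw [h5, h7, h4] at h6
    omega

/-- If `N(P)` centralizes `K`, the characters of `K` are stable. -/
theorem tw_of_cent {P : Sylow p G} {K : Subgroup G} (hK : IsComp p (P : Subgroup G) K)
    (h : ∀ n ∈ normalizer ((P : Subgroup G) : Set G), ∀ y ∈ K, n * y * n⁻¹ = y) (θ : K → ℂ) {n : G}
    (hn : n ∈ normalizer ((P : Subgroup G) : Set G)) : tw θ n = θ := by
  funext y
  rw [tw_apply hK θ hn]
  congr 1
  exact Subtype.ext (h n hn y y.2)

/-- The characters vanishing off `N`, of degree prime to `p`: `K ≤ N` if `N(P)` centralizes `K`. -/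
theorem le_of_cent {N : Subgroup G} [N.Normal] (h2 : N.index = 2) {P : Sylow p G} {K : Subgroup G} (D : Dat N P K)
    (h : ∀ n ∈ normalizer ((P : Subgroup G) : Set G), ∀ y ∈ K, n * y * n⁻¹ = y) {χ : IrrCharacter G}
    (h0 : ∀ g ∉ N, (χ : G → ℂ) g = 0) (hdeg : ¬ p ∣ charDegree (χ : G → ℂ)) : K ≤ N := by
  intro c hc
  by_contra hcN
  obtain ⟨l, hl, -⟩ := Cfsg.Agent.CharactersDeep.PrimeIndex.exists_hom_ker N Nat.prime_two h2
  obtain ⟨θ, hθ⟩ := exists_over D.hK D.hP hdeg
  obtain ⟨n, hn, h1⟩ := exists_twist D.hK D.hP l (fun x hx => (hl x).2 (D.le hx)) hθ fun g hg =>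
    h0 g fun h => hg ((hl g).2 h)
  have h3 := h1 ⟨c, hc⟩
  rw [tw_of_cent D.hK h _ hn] at h3
  have hcomm : ∀ a b : K, a * b = b * a := by
    intro a b
    have h4 := h a (centralizer_le_normalizer _ (D.hK.le a.2)) b b.2
    apply Subtype.ext
    change (a : G) * b = b * a
    calc (a : G) * b = a * b * (a : G)⁻¹ * a := by group
      _ = b * a := by rw [h4]
  obtain ⟨-, h5⟩ := ne_zero_of_comm hcomm θ.2
  have h6 : ((l c : ℂˣ) : ℂ) = 1 := by
    have h7 : (θ : K → ℂ) ⟨c, hc⟩ * (((l c : ℂˣ) : ℂ) - 1) = 0 := by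
      rw [mul_sub, ← h3, mul_one, sub_self]
    rcases mul_eq_zero.1 h7 with h | h
    · exact absurd h (h5 _)
    · exact sub_eq_zero.1 h
  exact hcN ((hl c).1 (Units.ext h6))

/-- The value on `P` and the degree, full automizer, `N(P)` centralizing `K`. -/
theorem degree_mod {N : Subgroup G} {P : Sylow p G} {K : Subgroup G} (D : Dat N P K)
    (h : ∀ n ∈ normalizer ((P : Subgroup G) : Set G), ∀ y ∈ K, n * y * n⁻¹ = y)
    (hfull : (p - 1) * (p * Nat.card K) = Nat.card (normalizer ((P : Subgroup G) : Set G)))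
    {χ : IrrCharacter G} (hdeg : ¬ p ∣ charDegree (χ : G → ℂ)) :
    ((charDegree (χ : G → ℂ) : ℤ) ≡ 1 [ZMOD p] ∨ (charDegree (χ : G → ℂ) : ℤ) ≡ -1 [ZMOD p]) ∧
      ∃ a : ℤ, (a = 1 ∨ a = -1) ∧ ∀ x ∈ (P : Subgroup G), x ≠ 1 → (χ : G → ℂ) x = a := by
  have hp : p.Prime := Fact.out
  obtain ⟨θ, hθ⟩ := exists_over D.hK D.hP hdeg
  have hst : Nat.card (stabAct D.hK (θ : K → ℂ)) = p - 1 := by
    have h1 := card_stabAct D.hK D.hP (θ := (θ : K → ℂ)) fun n hn => tw_of_cent D.hK h _ hn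
    rw [← hfull] at h1
    exact Nat.eq_of_mul_eq_mul_right (Nat.mul_pos hp.pos Nat.card_pos) h1
  obtain ⟨a, ha, hval⟩ := value D.hK D.hP θ hst hθ
  have hcomm : ∀ a b : K, a * b = b * a := by
    intro a b
    have h4 := h a (centralizer_le_normalizer _ (D.hK.le a.2)) b b.2
    apply Subtype.ext
    change (a : G) * b = b * a
    calc (a : G) * b = a * b * (a : G)⁻¹ * a := by group
      _ = b * a := by rw [h4]
  have hθ1 := (ne_zero_of_comm hcomm θ.2).1
  have hval' : ∀ x ∈ (P : Subgroup G), x ≠ 1 → (χ : G → ℂ) x = a := by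
    intro x hx hx1
    have h1 := hval x hx hx1 1
    rw [hθ1, mul_one, Subgroup.coe_one, mul_one] at h1
    exact h1
  obtain ⟨b, hb, n, hn, hmod⟩ := int_of_const (P := (P : Subgroup G)) hp D.hP
    (isCharacter_comp (P : Subgroup G).subtype (isIrr_isCharacter χ.2)) fun x y hx hy => by
      change (χ : G → ℂ) (x : G) = (χ : G → ℂ) (y : G)
      rw [hval' _ x.2 fun h => hx (Subtype.ext h), hval' _ y.2 fun h => hy (Subtype.ext h)]
  obtain ⟨x₀, hx₀, hx₀1⟩ := exists_ne_one (P := (P : Subgroup G)) D.hP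
  have hab : a = b := by
    have h1 := hb ⟨x₀, hx₀⟩ fun h => hx₀1 (congrArg Subtype.val h)
    rw [Function.comp_apply] at h1
    change (χ : G → ℂ) x₀ = b at h1
    rw [hval' x₀ hx₀ hx₀1] at h1
    exact_mod_cast h1
  have hn' : n = charDegree (χ : G → ℂ) := by
    rw [Function.comp_apply, map_one, Cfsg.Agent.H606.McKayOnce.one_eq_charDegree χ] at hn
    exact_mod_cast hn.symm
  rw [hn', ← hab] at hmod
  refine ⟨?_, a, ha, hval'⟩
  rcases ha with rfl | rfl
  · exact Or.inl hmod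
  · exact Or.inr hmod

/-- The order of `N(P)` when `N(P)` centralizes `K`. -/
theorem exists_e {N : Subgroup G} {P : Sylow p G} {K : Subgroup G} (D : Dat N P K) :
    ∃ e, e ∣ p - 1 ∧ e * (p * Nat.card K) = Nat.card (normalizer ((P : Subgroup G) : Set G)) ∧
      e * Nat.card K ≡ Nat.card G / p [MOD p] := by
  have hp : p.Prime := Fact.out
  let θ : IrrCharacter K := ⟨1, isIrr_one⟩
  have hst : ∀ n ∈ normalizer ((P : Subgroup G) : Set G), tw (θ : K → ℂ) n = θ := by
    intro n hn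
    funext y
    rw [tw_apply D.hK _ hn]
    rfl
  refine ⟨Nat.card (stabAct D.hK (θ : K → ℂ)), ?_, card_stabAct D.hK D.hP hst, ?_⟩
  · have h1 := Subgroup.card_subgroup_dvd_card (stabAct D.hK (θ : K → ℂ))
    have h2 : Nat.card (MulAut P) = p - 1 := card_mulAut D.hP
    rwa [h2] at h1
  · have h1 := card_mod (P := P) D.hP
    rw [← card_stabAct D.hK D.hP hst] at h1
    rw [show Nat.card (stabAct D.hK (θ : K → ℂ)) * (p * Nat.card K) =
      p * (Nat.card (stabAct D.hK (θ : K → ℂ)) * Nat.card K) by ring, Nat.mul_div_cancel_left _ hp.pos] at h1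
    exact h1.symm

/-- Conjugation fixes the elements of a subgroup of order at most two. -/
theorem fix_of_card_le {L : Subgroup G} (hL : Nat.card L ≤ 2) {n : G} (hn : ∀ y ∈ L, n * y * n⁻¹ ∈ L) {y : G}
    (hy : y ∈ L) : n * y * n⁻¹ = y := by
  classical
  by_cases hy1 : y = 1
  · rw [hy1]; group
  · by_contra hne
    have h3 : n * y * n⁻¹ ∈ L := hn y hy
    have h4 : n * y * n⁻¹ ≠ 1 := by
      intro h
      apply hy1
      calc y = n⁻¹ * (n * y * n⁻¹) * n := by group
        _ = 1 := by rw [h]; group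
    have h5 : ({1, ⟨y, hy⟩, ⟨n * y * n⁻¹, h3⟩} : Finset L).card ≤ Nat.card L := by
      have := Fintype.ofFinite L
      rw [Nat.card_eq_fintype_card]
      exact Finset.card_le_univ _
    rw [Finset.card_eq_three.2 ⟨1, ⟨y, hy⟩, ⟨n * y * n⁻¹, h3⟩, fun h => hy1 (congrArg Subtype.val h).symm,
      fun h => h4 (congrArg Subtype.val h).symm, fun h => hne (congrArg Subtype.val h).symm, rfl⟩] at h5
    omega

/-- **First criterion**: `x` is self-centralizing in `N`. -/
theorem key_one {N : Subgroup G} [N.Normal] (h2 : N.index = 2) (hp2 : p ≠ 2) (hsq : ¬ p ^ 2 ∣ Nat.card G) {x : G}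
    (hx : orderOf x = p) (hk : Nat.card (centralizer ({x} : Set G) ⊓ N : Subgroup G) = p) {χ : IrrCharacter G}
    (h0 : ∀ g ∉ N, (χ : G → ℂ) g = 0) (hdeg : ¬ p ∣ charDegree (χ : G → ℂ)) :
    (Nat.card G / p) % p ∣ p - 1 ∧ ((Nat.card G / p) % p = p - 1 →
      ((charDegree (χ : G → ℂ) : ℤ) ≡ 1 [ZMOD p] ∨ (charDegree (χ : G → ℂ) : ℤ) ≡ -1 [ZMOD p]) ∧
      ∃ a : ℤ, (a = 1 ∨ a = -1) ∧ (χ : G → ℂ) x = a) := by
  have hp : p.Prime := Fact.out
  obtain ⟨P, K, D, hPx, hcard, -⟩ := exists_dat h2 hp2 hsq hx (k := 1) (by rw [mul_one]; exact hk)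
  have hle2 : Nat.card K ≤ 2 := by omega
  have hcent : ∀ n ∈ normalizer ((P : Subgroup G) : Set G), ∀ y ∈ K, n * y * n⁻¹ = y := fun n hn y hy =>
    fix_of_card_le hle2 (fun z hz => conj_mem D.hK hn hz) hy
  have hKN := le_of_cent h2 D hcent h0 hdeg
  have hK1 : Nat.card K = 1 := by
    rcases hcard with h | h
    · exact h.1
    · exact absurd hKN h.2
  obtain ⟨e, he, hcardN, hmod⟩ := exists_e D
  rw [hK1, mul_one] at hmod
  have he0 : 0 < e := Nat.pos_of_ne_zero fun h => by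
    rw [h, zero_mul] at hcardN
    exact Nat.card_pos.ne' hcardN.symm
  have hep : e < p := by
    have := Nat.le_of_dvd (by have := hp.one_lt; omega) he
    have := hp.one_lt
    omega
  have hme : (Nat.card G / p) % p = e := by
    have h1 : e % p = (Nat.card G / p) % p := hmod
    rw [← h1, Nat.mod_eq_of_lt hep]
  refine ⟨by rw [hme]; exact he, fun h => ?_⟩
  rw [hme] at h
  obtain ⟨h3, a, ha, hval⟩ := degree_mod D hcent (by rw [← h]; exact hcardN) hdeg
  refine ⟨h3, a, ha, hval x ?_ ?_⟩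
  · rw [hPx]; exact mem_zpowers x
  · rintro rfl
    rw [orderOf_one] at hx
    exact hp.one_lt.ne hx

theorem cP_pow {P : Sylow p G} {n : G} (hn : n ∈ normalizer ((P : Subgroup G) : Set G)) (j : ℕ) (x : P) :
    (((cP hn ^ j) x : P) : G) = n ^ j * x * (n ^ j)⁻¹ := by
  induction j with
  | zero => simp
  | succ j ih =>
    rw [pow_succ', MulAut.mul_apply, coe_cP, ih, pow_succ']
    group

/-- **Second criterion**: the centralizer of `x` in `N` has order `2 p`. -/
theorem key_two {N : Subgroup G} [N.Normal] (h2 : N.index = 2) (hp2 : p ≠ 2) (hsq : ¬ p ^ 2 ∣ Nat.card G) {x : G}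
    (hx : orderOf x = p) (hk : Nat.card (centralizer ({x} : Set G) ⊓ N : Subgroup G) = p * 2)
    (hA : ∀ e, e ∣ p - 1 → e * 2 ≡ Nat.card G / p [MOD p] → e = p - 1)
    (hB : ∀ e, e ∣ p - 1 → e * 4 ≡ Nat.card G / p [MOD p] → Odd e) {χ : IrrCharacter G}
    (h0 : ∀ g ∉ N, (χ : G → ℂ) g = 0) (hdeg : ¬ p ∣ charDegree (χ : G → ℂ)) :
    ((charDegree (χ : G → ℂ) : ℤ) ≡ 1 [ZMOD p] ∨ (charDegree (χ : G → ℂ) : ℤ) ≡ -1 [ZMOD p]) ∧
      ∃ a : ℤ, (a = 1 ∨ a = -1) ∧ (χ : G → ℂ) x = a := by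
  have hp : p.Prime := Fact.out
  obtain ⟨P, K, D, hPx, hcard, hinf⟩ := exists_dat h2 hp2 hsq hx (k := 2) hk
  obtain ⟨e, he, hcardN, hmod⟩ := exists_e D
  rcases hcard with ⟨hK, hKN⟩ | ⟨hK, hKN⟩
  · have hcent : ∀ n ∈ normalizer ((P : Subgroup G) : Set G), ∀ y ∈ K, n * y * n⁻¹ = y := fun n hn y hy =>
      fix_of_card_le hK.le (fun z hz => conj_mem D.hK hn hz) hy
    have he1 := hA e he (by rw [← hK]; exact hmod)
    obtain ⟨h3, a, ha, hval⟩ := degree_mod D hcent (by rw [← he1]; exact hcardN) hdeg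
    refine ⟨h3, a, ha, hval x ?_ ?_⟩
    · rw [hPx]; exact mem_zpowers x
    · rintro rfl
      rw [orderOf_one] at hx
      exact hp.one_lt.ne hx
  · exfalso
    have hodd := hB e he (by rw [show 4 = Nat.card K by rw [hK]]; exact hmod)
    have hK4 : Nat.card K = 2 ^ 2 := by rw [hK]; norm_num
    have : Fact (Nat.Prime 2) := ⟨Nat.prime_two⟩
    have hcomm : ∀ a b : K, a * b = b * a := (IsPGroup.isMulCommutative_of_card_eq_prime_sq hK4).is_comm.comm
    apply hKN
    refine le_of_cent h2 D ?_ h0 hdeg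
    intro n hn y hy
    have hfixN : ∀ z ∈ K ⊓ N, n * z * n⁻¹ = z := fun z hz =>
      fix_of_card_le (L := K ⊓ N) hinf.le (fun w hw => ⟨conj_mem D.hK hn hw.1, ‹N.Normal›.conj_mem w hw.2 n⟩) hz
    by_cases hyN : y ∈ N
    · exact hfixN y ⟨hy, hyN⟩
    set u := y⁻¹ * (n * y * n⁻¹) with hu
    have huK : u ∈ K ⊓ N := by
      refine mem_inf.2 ⟨K.mul_mem (K.inv_mem hy) (conj_mem D.hK hn hy), ?_⟩
      rw [hu, Subgroup.mul_mem_iff_of_index_two h2]
      have : n * y * n⁻¹ ∉ N := fun h => hyN (by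
        have := ‹N.Normal›.conj_mem _ h n⁻¹
        rwa [show n⁻¹ * (n * y * n⁻¹) * n⁻¹⁻¹ = y by group] at this)
      simp [hyN, this]
    have hnu := hfixN u huK
    have hpow : ∀ j : ℕ, n ^ j * y * (n ^ j)⁻¹ = y * u ^ j := by
      intro j
      induction j with
      | zero => simp
      | succ j ih =>
        have h3 : n * u ^ j * n⁻¹ = u ^ j := by rw [← conj_pow, hnu]
        calc n ^ (j + 1) * y * (n ^ (j + 1))⁻¹ = n * (n ^ j * y * (n ^ j)⁻¹) * n⁻¹ := by rw [pow_succ']; group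
          _ = (n * y * n⁻¹) * (n * u ^ j * n⁻¹) := by rw [ih]; group
          _ = y * u * u ^ j := by rw [h3, hu]; group
          _ = y * u ^ (j + 1) := by rw [pow_succ', mul_assoc]
    -- `n ^ e` centralizes `P`
    have hne : n ^ e ∈ centralizer ((P : Subgroup G) : Set G) := by
      let θ : IrrCharacter K := ⟨1, isIrr_one⟩
      have hst : ∀ n ∈ normalizer ((P : Subgroup G) : Set G), tw (θ : K → ℂ) n = θ := by
        intro n hn
        funext y
        rw [tw_apply D.hK _ hn]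
        rfl
      have hce : Nat.card (stabAct D.hK (θ : K → ℂ)) = e := by
        have h3 := card_stabAct D.hK D.hP hst
        rw [← hcardN] at h3
        exact Nat.eq_of_mul_eq_mul_right (Nat.mul_pos hp.pos Nat.card_pos) h3
      have hmem : cP hn ∈ stabAct D.hK (θ : K → ℂ) := ⟨n, hn, fun x => rfl, hst n hn⟩
      have h3 : (cP hn) ^ e = 1 := by
        have h4 := pow_card_eq_one' (x := (⟨cP hn, hmem⟩ : stabAct D.hK (θ : K → ℂ)))
        rw [hce] at h4
        exact congrArg Subtype.val h4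
      rw [mem_centralizer_iff]
      intro x hx
      have h4 := cP_pow hn e ⟨x, hx⟩
      rw [h3] at h4
      change x = n ^ e * x * (n ^ e)⁻¹ at h4
      calc x * n ^ e = n ^ e * x * (n ^ e)⁻¹ * n ^ e := by rw [← h4]
        _ = n ^ e * x := by group
    obtain ⟨v, hv, w, hw, hvw⟩ := D.hK.exists_mul D.hP hne
    have h5 : n ^ e * y * (n ^ e)⁻¹ = y := by
      have h6 : v * y = y * v := D.hK.comm hv hy
      have h7 : w * y = y * w := congrArg Subtype.val (hcomm ⟨w, hw⟩ ⟨y, hy⟩)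
      rw [← hvw]
      calc v * w * y * (v * w)⁻¹ = v * (w * y) * (v * w)⁻¹ := by group
        _ = (v * y) * w * (v * w)⁻¹ := by rw [h7]; group
        _ = y := by rw [h6]; group
    rw [hpow e] at h5
    have h6 : u ^ e = 1 := by simpa using h5
    have h7 : u ^ 2 = 1 := by
      have h8 := pow_card_eq_one' (x := (⟨u, huK⟩ : (K ⊓ N : Subgroup G)))
      rw [hinf] at h8
      exact congrArg Subtype.val h8
    obtain ⟨k, hk⟩ := hodd
    have h8 : u = 1 := by
      rw [hk, pow_succ, pow_mul, h7, one_pow, one_mul] at h6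
      exact h6
    rw [hu] at h8
    exact (inv_mul_eq_one.1 h8).symm

end Cfsg.Agent.H348.PPD.Key
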