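import Cfsg.Agent.H606.McKayOnce
import Cfsg.Agent.CharactersDeep.PrimeIndex
import Cfsg.Agent.Characters.GaloisBasic

/-!
# Values on the `p`-singular elements when the Sylow subgroups have order `p` (helper348)

`G` finite, `P` a Sylow `p`-subgroup of order `p`, `C(P) = P × K`.

* `int_of_const` : a character of a group of order `p` which is constant on the nontrivial elements has there an integer
  value congruent to its degree modulo `p`;
* `exists_over` : an irreducible character of degree prime to `p` is over some irreducible character of `K`;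
* `part_eq_one` : if `θ` is stable under a full automizer, `part θ χ x = ± 1` for the characters over `θ`;
* `value` : then `χ (x y) = ± θ (y)` if no conjugate of `θ` is different from `θ`;
* `exists_twist` : if `χ` vanishes off the kernel of a linear character `l`, then `θ * l` is conjugate to `θ` in `N(P)`;
* `card_mod` : Sylow's congruence `#G / p = e * #K` modulo `p`.
-/

set_option autoImplicit false

open scoped ComplexConjugate
open Cfsg Subgroup
open Cfsg.Agent.Characters.Core Cfsg.Agent.Characters.Linear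
open Cfsg.Agent.SmallSimple.ThetaSetup Cfsg.Agent.SmallSimple.ThetaOrtho Cfsg.Agent.SmallSimple.ThetaGroup
open Cfsg.Agent.SmallSimple.ThetaCount Cfsg.Agent.SmallSimple.SingularCount

namespace Cfsg.Agent.H348.PPD.Part

universe u

/-- A character of a group of prime order constant on the nontrivial elements. -/
theorem int_of_const {P : Type u} [Group P] [Finite P] {p : ℕ} (hp : p.Prime) (hP : Nat.card P = p) {φ : P → ℂ}
    (hφ : IsCharacter P φ) (h : ∀ x y : P, x ≠ 1 → y ≠ 1 → φ x = φ y) :
    ∃ a : ℤ, (∀ x : P, x ≠ 1 → φ x = a) ∧ ∃ n : ℕ, φ 1 = n ∧ (n : ℤ) ≡ a [ZMOD p] := by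
  classical
  have := Fintype.ofFinite P
  have hcard : Fintype.card P = p := by rw [← Nat.card_eq_fintype_card, hP]
  obtain ⟨m, hm⟩ := classInner_isNat hφ (isCharacter_one (G := P))
  obtain ⟨n, hn⟩ : ∃ n : ℕ, φ 1 = n := by
    obtain ⟨k, ρ, rfl⟩ := hφ
    exact ⟨_, Representation.char_one ρ⟩
  have hnt : Nontrivial P := by
    rw [← Finite.one_lt_card_iff_nontrivial, hP]
    exact hp.one_lt
  obtain ⟨x₀, hx₀⟩ := exists_ne (1 : P)
  have hsum : ∑ x : P, φ x = n + (p - 1 : ℕ) * φ x₀ := by
    rw [← Finset.add_sum_erase Finset.univ φ (Finset.mem_univ (1 : P)), hn]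
    congr 1
    rw [Finset.sum_congr rfl (g := fun _ => φ x₀) fun x hx => h x x₀ (Finset.ne_of_mem_erase hx) hx₀,
      Finset.sum_const, Finset.card_erase_of_mem (Finset.mem_univ _), Finset.card_univ, hcard, nsmul_eq_mul]
  have hinner : ∑ x : P, φ x = p * m := by
    rw [classInner_def] at hm
    have hp0 : (Nat.card P : ℂ) ≠ 0 := by exact_mod_cast Nat.card_pos.ne'
    have h1 : ∑ x : P, φ x * conj ((1 : P → ℂ) x) = Nat.card P * m := by
      field_simp at hm
      linear_combination hm
    rw [hP] at h1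
    rw [← h1]
    refine Finset.sum_congr rfl fun x _ => ?_
    simp
  have hp1 : ((p - 1 : ℕ) : ℂ) ≠ 0 := by
    have := hp.two_le
    exact_mod_cast (by omega : p - 1 ≠ 0)
  have hint : IsIntegral ℤ (φ x₀) := Cfsg.Agent.Characters.GaloisBasic.isIntegral_apply hφ x₀
  obtain ⟨a, ha⟩ := Cfsg.Agent.Characters.GaloisBasic.exists_int_of_isIntegral hint
    ⟨((p : ℚ) * m - n) / (p - 1 : ℕ), by
      push_cast
      rw [eq_div_iff (by exact_mod_cast hp1)]
      have h1 := hsum.symm.trans hinner
      linear_combination h1⟩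
  refine ⟨a, fun x hx => by rw [h x x₀ hx hx₀, ha], n, hn, ?_⟩
  have h1 := hsum.symm.trans hinner
  rw [ha] at h1
  have h2 : (n : ℤ) + (p - 1 : ℕ) * a = p * m := by exact_mod_cast h1
  rw [Nat.cast_sub hp.one_lt.le] at h2
  push_cast at h2
  rw [Int.modEq_iff_dvd]
  exact ⟨a - m, by linear_combination -h2⟩

variable {G : Type u} [Group G] [Finite G] {p : ℕ} [Fact p.Prime] {P : Sylow p G} {K : Subgroup G}

/-- An irreducible character of degree prime to `p` is over some irreducible character of `K`. -/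
theorem exists_over (hK : IsComp p (P : Subgroup G) K) (hP : Nat.card P = p) {χ : IrrCharacter G}
    (h : ¬ p ∣ charDegree (χ : G → ℂ)) : ∃ θ : IrrCharacter K, χ ∈ Over P (θ : K → ℂ) :=
  exists_mem_Over hK hP ((Cfsg.Agent.H606.McKayOnce.mem_nonzeroOn_iff hP χ).2 h)

omit [Finite G] in
theorem card_mulAut {Q : Type u} [Group Q] (hQ : Nat.card Q = p) : Nat.card (MulAut Q) = p - 1 := by
  have hp : p.Prime := Fact.out
  have h1 : IsCyclic Q := isCyclic_of_prime_card hQ
  rw [Nat.card_congr (IsCyclic.mulAutMulEquiv Q).toEquiv, hQ, Nat.card_eq_fintype_card, ZMod.card_units_eq_totient,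
    Nat.totient_prime hp]

omit [Finite G] in
/-- Two nontrivial elements of a group of prime order are exchanged by an automorphism. -/
theorem exists_aut {Q : Type u} [Group Q] (hQ : Nat.card Q = p) {x y : Q} (hx : x ≠ 1) (hy : y ≠ 1) :
    ∃ r : MulAut Q, r x = y := by
  have hp : p.Prime := Fact.out
  have ho : ∀ z : Q, z ≠ 1 → orderOf z = p := by
    intro z hz
    have h2 := orderOf_dvd_natCard z
    rw [hQ] at h2
    rcases (Nat.dvd_prime hp).1 h2 with h | h
    · exact absurd (orderOf_eq_one_iff.1 h) hz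
    · exact h
  have : Finite Q := Nat.finite_of_card_ne_zero (by rw [hQ]; exact hp.ne_zero)
  have hg : ∀ w : Q, w ≠ 1 → ∀ z : Q, z ∈ zpowers w := by
    intro w hw z
    have h3 : Nat.card (zpowers w) = Nat.card Q := by rw [Nat.card_zpowers, ho w hw, hQ]
    rw [Subgroup.eq_top_of_card_eq _ h3]
    exact mem_top z
  exact ⟨mulEquivOfOrderOfEq (hg x hx) (hg y hy) (by rw [ho x hx, ho y hy]),
    mulEquivOfOrderOfEq_apply_gen (hg x hx) (hg y hy) _⟩

/-- If the automizer of `θ` is full, the multiplicity of `θ` in the characters over `θ` is `± 1`. -/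
theorem part_eq_one (hK : IsComp p (P : Subgroup G) K) (hP : Nat.card P = p) (θ : IrrCharacter K)
    (hst : Nat.card (stabAct hK (θ : K → ℂ)) = p - 1) {χ : IrrCharacter G} (hχ : χ ∈ Over P (θ : K → ℂ)) :
    ∃ a : ℤ, (a = 1 ∨ a = -1) ∧ ∀ x : P, x ≠ 1 → part (θ : K → ℂ) (χ : G → ℂ) x = a := by
  classical
  have hp : p.Prime := Fact.out
  have htop : stabAct hK (θ : K → ℂ) = ⊤ := by
    apply Subgroup.eq_top_of_card_eq
    rw [hst]
    exact (card_mulAut hP).symm
  -- the multiplicities are constant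
  have hconst : ∀ (ψ : IrrCharacter G) (x y : P), x ≠ 1 → y ≠ 1 →
      part (θ : K → ℂ) (ψ : G → ℂ) x = part (θ : K → ℂ) (ψ : G → ℂ) y := by
    intro ψ x y hx hy
    obtain ⟨r, rfl⟩ := exists_aut hP hx hy
    exact (part_stabAct hK (isIrr_isClassFunction ψ.2) (by rw [htop]; exact mem_top r) x).symm
  have hint : ∀ ψ : IrrCharacter G, ∃ a : ℤ, ∀ x : P, x ≠ 1 → part (θ : K → ℂ) (ψ : G → ℂ) x = a := fun ψ => by
    obtain ⟨a, ha, -⟩ := int_of_const hp hP (isCharacter_part hK (isIrr_isCharacter ψ.2) θ.2) (hconst ψ)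
    exact ⟨a, ha⟩
  choose a ha using hint
  obtain ⟨x₀, hx₀, hx₀1⟩ := exists_ne_one (P := (P : Subgroup G)) hP
  have hx1 : (⟨x₀, hx₀⟩ : P) ≠ 1 := fun h => hx₀1 (congrArg Subtype.val h)
  have := finite_irr (G := G)
  have := Fintype.ofFinite (IrrCharacter G)
  have hsum := sum_part_self hK hP θ.2 hx1 hx1
  rw [if_pos ⟨1, one_mem _, rfl⟩] at hsum
  have hsum' : ∑ ψ : IrrCharacter G, a ψ ^ 2 = p := by
    have h1 : ((∑ ψ : IrrCharacter G, a ψ ^ 2 : ℤ) : ℂ) = ((p : ℤ) : ℂ) := by
      push_cast
      rw [← hsum]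
      refine Finset.sum_congr rfl fun ψ _ => ?_
      rw [ha ψ ⟨x₀, hx₀⟩ hx1, map_intCast, sq]
    exact_mod_cast h1
  have hcardO : Nat.card (Over P (θ : K → ℂ)) = p := by
    have h1 := (sharp hK hP θ).1 (p - 1) 1 hst (by rw [mul_one])
    rw [h1]
    have := hp.one_lt
    omega
  have hmem : ∀ ψ : IrrCharacter G, ψ ∈ Over P (θ : K → ℂ) ↔ a ψ ≠ 0 := by
    intro ψ
    constructor
    · rintro ⟨x, hx, hne⟩ h0
      apply hne
      rw [ha ψ x hx, h0, Int.cast_zero]
    · intro h0
      refine ⟨⟨x₀, hx₀⟩, hx1, ?_⟩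
      rw [ha ψ _ hx1]
      exact_mod_cast h0
  have hcard' : (Finset.univ.filter fun ψ : IrrCharacter G => a ψ ≠ 0).card = p := by
    rw [← hcardO, Nat.card_eq_card_finite_toFinset (Set.toFinite (Over P (θ : K → ℂ)))]
    congr 1
    ext ψ
    simp [hmem ψ]
  have hle : ∀ ψ : IrrCharacter G, (if a ψ ≠ 0 then (1 : ℤ) else 0) ≤ a ψ ^ 2 := by
    intro ψ
    split_ifs with h
    · have : 0 < a ψ ^ 2 := by positivity
      omega
    · positivity
  have heq : ∑ ψ : IrrCharacter G, (if a ψ ≠ 0 then (1 : ℤ) else 0) = ∑ ψ : IrrCharacter G, a ψ ^ 2 := by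
    rw [hsum', Finset.sum_ite, Finset.sum_const_zero, add_zero, Finset.sum_const, hcard', nsmul_eq_mul, mul_one]
  have hall := (Finset.sum_eq_sum_iff_of_le fun ψ _ => hle ψ).1 heq χ (Finset.mem_univ _)
  rw [if_pos ((hmem χ).1 hχ)] at hall
  exact ⟨a χ, by
    rcases mul_eq_zero.1 (show (a χ - 1) * (a χ + 1) = 0 by linear_combination -hall) with h | h
    · left; omega
    · right; omega, ha χ⟩

/-- A full automizer means that `θ` is stable. -/
theorem stable_of_full (hK : IsComp p (P : Subgroup G) K) (hP : Nat.card P = p) {θ : IrrCharacter K}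
    (hst : Nat.card (stabAct hK (θ : K → ℂ)) = p - 1) {n : G} (hn : n ∈ normalizer ((P : Subgroup G) : Set G)) :
    tw (θ : K → ℂ) n = θ := by
  have htop : stabAct hK (θ : K → ℂ) = ⊤ := by
    apply Subgroup.eq_top_of_card_eq
    rw [hst]
    exact (card_mulAut hP).symm
  obtain ⟨m, hm, hact, hfix⟩ := (mem_stabAct hK (θ : K → ℂ) (r := cP hn)).1 (by rw [htop]; exact mem_top _)
  have hc : m⁻¹ * n ∈ centralizer ((P : Subgroup G) : Set G) := by
    rw [mem_centralizer_iff]
    intro x hx
    have h1 := hact ⟨x, hx⟩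
    rw [coe_cP] at h1
    change n * x * n⁻¹ = m * x * m⁻¹ at h1
    calc x * (m⁻¹ * n) = m⁻¹ * (m * x * m⁻¹) * n := by group
      _ = m⁻¹ * (n * x * n⁻¹) * n := by rw [h1]
      _ = m⁻¹ * n * x := by group
  have h2 : n = m * (m⁻¹ * n) := by group
  rw [h2, tw_mul hK _ hm (mul_mem (inv_mem hm) hn), hfix, tw_centralizer hK hP (isIrr_isClassFunction θ.2) hc]

/-- The values of a character over a stable `θ` with full automizer. -/
theorem value (hK : IsComp p (P : Subgroup G) K) (hP : Nat.card P = p) (θ : IrrCharacter K)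
    (hst : Nat.card (stabAct hK (θ : K → ℂ)) = p - 1) {χ : IrrCharacter G} (hχ : χ ∈ Over P (θ : K → ℂ)) :
    ∃ a : ℤ, (a = 1 ∨ a = -1) ∧ ∀ x ∈ (P : Subgroup G), x ≠ 1 → ∀ y : K,
      (χ : G → ℂ) (x * y) = a * (θ : K → ℂ) y := by
  classical
  obtain ⟨a, ha, hval⟩ := part_eq_one hK hP θ hst hχ
  refine ⟨a, ha, fun x hx hx1 y => ?_⟩
  have := finite_irr (G := K)
  have := Fintype.ofFinite (IrrCharacter K)
  rw [sum_part (isIrr_isClassFunction χ.2) (fun y hy => hK.comm hx hy) y, Finset.sum_eq_single θ]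
  · rw [hval ⟨x, hx⟩ fun h => hx1 (congrArg Subtype.val h)]
  · intro θ₁ _ hne
    have h1 := (sharp hK hP θ).2 θ₁ fun n hn h2 => hne (Subtype.ext (by
      rw [← h2, stable_of_full hK hP hst hn]))
    have h2 : χ ∉ Over P (θ₁ : K → ℂ) := fun h3 => Set.disjoint_left.1 h1 hχ h3
    rw [part_eq_zero h2 (x := ⟨x, hx⟩) fun h => hx1 (congrArg Subtype.val h), zero_mul]
  · intro h
    exact absurd (Finset.mem_univ _) h

/-- Twisting an irreducible character by a linear character. -/
theorem isIrr_twist {H : Type u} [Group H] [Finite H] (l : H →* ℂˣ) {θ : H → ℂ} (hθ : IsIrrCharacter H θ) :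
    IsIrrCharacter H (fun y => θ y * (l y : ℂ)) := by
  classical
  have := Fintype.ofFinite H
  have hch : IsCharacter H (fun y => θ y * (l y : ℂ)) :=
    isCharacter_mul (isIrr_isCharacter hθ) (Characters.Linear.isCharacter_hom l)
  rw [isIrr_iff_classInner_self hch, ← classInner_irr_self hθ]
  show (Nat.card H : ℂ)⁻¹ * ∑ g : H, (θ g * (l g : ℂ)) * conj (θ g * (l g : ℂ)) =
    (Nat.card H : ℂ)⁻¹ * ∑ g : H, θ g * conj (θ g)
  congr 1
  refine Finset.sum_congr rfl fun g _ => ?_
  have h1 : (l g : ℂ) * conj (l g : ℂ) = 1 := by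
    rw [Complex.mul_conj, Complex.normSq_eq_norm_sq, Characters.Linear.norm_hom_apply]
    simp
  rw [map_mul]
  linear_combination θ g * conj (θ g) * h1

/-- If `χ` vanishes off the kernel of the linear character `l` and is over `θ`, then `θ l` is conjugate to `θ`. -/
theorem exists_twist (hK : IsComp p (P : Subgroup G) K) (hP : Nat.card P = p) (l : G →* ℂˣ)
    (hlP : ∀ x ∈ (P : Subgroup G), l x = 1) {θ : IrrCharacter K} {χ : IrrCharacter G}
    (hχ : χ ∈ Over P (θ : K → ℂ)) (h0 : ∀ g, l g ≠ 1 → (χ : G → ℂ) g = 0) :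
    ∃ n ∈ normalizer ((P : Subgroup G) : Set G), ∀ y : K, tw (θ : K → ℂ) n y = (θ : K → ℂ) y * (l y : ℂ) := by
  classical
  have := Fintype.ofFinite K
  let θ₁ : IrrCharacter K := ⟨_, isIrr_twist (l.comp K.subtype) θ.2⟩
  by_contra hcon
  push Not at hcon
  have h1 := (sharp hK hP θ).2 θ₁ fun n hn h2 => by
    obtain ⟨y, hy⟩ := hcon n hn
    exact hy (congrFun h2 y)
  obtain ⟨x, hx, hne⟩ := hχ
  refine Set.disjoint_left.1 h1 ⟨x, hx, hne⟩ ⟨x, hx, ?_⟩
  have h2 : part (θ₁ : K → ℂ) (χ : G → ℂ) x = part (θ : K → ℂ) (χ : G → ℂ) x := by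
    rw [part_eq, part_eq]
    congr 1
    refine Finset.sum_congr rfl fun y _ => ?_
    by_cases hy : l (y : G) = 1
    · have : (θ₁ : K → ℂ) y = (θ : K → ℂ) y := by
        change (θ : K → ℂ) y * ((l (y : G) : ℂˣ) : ℂ) = _
        rw [hy, Units.val_one, mul_one]
      rw [this]
    · rw [h0 (x * y) (by rw [map_mul, hlP x x.2, one_mul]; exact hy), zero_mul, zero_mul]
  rw [h2]
  exact hne

/-- The order of the automizer of a stable character. -/
theorem card_stabAct (hK : IsComp p (P : Subgroup G) K) (hP : Nat.card P = p) {θ : K → ℂ}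
    (hst : ∀ n ∈ normalizer ((P : Subgroup G) : Set G), tw θ n = θ) :
    Nat.card (stabAct hK θ) * (p * Nat.card K) = Nat.card (normalizer ((P : Subgroup G) : Set G)) := by
  have h1 : (centralizer ((P : Subgroup G) : Set G)).relIndex (normalizer ((P : Subgroup G) : Set G)) =
      Nat.card (stabAct hK θ) := by
    let f : normalizer ((P : Subgroup G) : Set G) →* MulAut P :=
      { toFun := fun n => cP n.2
        map_one' := by
          ext x
          rw [coe_cP]
          simp
        map_mul' := fun a b => by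
          ext x
          rw [MulAut.mul_apply, coe_cP, coe_cP, coe_cP]
          simp only [Subgroup.coe_mul]
          group }
    have hker : f.ker = (centralizer ((P : Subgroup G) : Set G)).subgroupOf
        (normalizer ((P : Subgroup G) : Set G)) := by
      ext n
      rw [MonoidHom.mem_ker, mem_subgroupOf, mem_centralizer_iff]
      constructor
      · intro h x hx
        have h2 := congrArg (fun r : MulAut P => ((r ⟨x, hx⟩ : P) : G)) h
        change (n : G) * x * (n : G)⁻¹ = x at h2
        calc x * (n : G) = (n : G) * x * (n : G)⁻¹ * n := by rw [h2]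
          _ = (n : G) * x := by group
      · intro h
        ext x
        change (n : G) * x * (n : G)⁻¹ = x
        rw [← h x x.2]
        group
    have hran : f.range = stabAct hK θ := by
      ext r
      rw [mem_stabAct]
      constructor
      · rintro ⟨n, rfl⟩
        exact ⟨n, n.2, fun x => rfl, hst n n.2⟩
      · rintro ⟨n, hn, h2, -⟩
        refine ⟨⟨n, hn⟩, ?_⟩
        ext x
        exact (h2 x).symm
    rw [relIndex, ← hker, ← hran]
    exact Subgroup.index_ker f
  rw [← h1, ← card_centralizer hK hP]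
  have h2 := Subgroup.card_mul_index ((centralizer ((P : Subgroup G) : Set G)).subgroupOf
    (normalizer ((P : Subgroup G) : Set G)))
  rw [Nat.card_congr (subgroupOfEquivOfLe (H := centralizer ((P : Subgroup G) : Set G))
    (K := normalizer ((P : Subgroup G) : Set G)) (centralizer_le_normalizer _)).toEquiv] at h2
  rw [relIndex, mul_comm]
  exact h2

/-- Sylow's congruence. -/
theorem card_mod (hP : Nat.card P = p) :
    Nat.card G / p ≡ Nat.card (normalizer ((P : Subgroup G) : Set G)) / p [MOD p] := by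
  have hp : p.Prime := Fact.out
  have h1 : (normalizer ((P : Subgroup G) : Set G)).index ≡ 1 [MOD p] := by
    have := card_sylow_modEq_one p G
    rwa [P.card_eq_index_normalizer] at this
  have h2 := Subgroup.card_mul_index (normalizer ((P : Subgroup G) : Set G))
  have h3 : p ∣ Nat.card (normalizer ((P : Subgroup G) : Set G)) := by
    have := Subgroup.card_dvd_of_le (le_normalizer (H := (P : Subgroup G)))
    rwa [hP] at this
  obtain ⟨m, hm⟩ := h3
  rw [← h2, hm, mul_assoc, Nat.mul_div_cancel_left _ hp.pos, Nat.mul_div_cancel_left _ hp.pos]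
  simpa using h1.mul_left m

end Cfsg.Agent.H348.PPD.Part
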