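import Cfsg.Agent.H348.PPD.KFive
import Cfsg.Agent.H348.PPD.AltFive
import Cfsg.Agent.H348.PPD.IndexTwo
import Cfsg.Agent.H348.PPD.Uniq

/-!
# Noninvariant characters and elements of prime order with centralizer `p × A₅` (helper348)
-/

set_option autoImplicit false

open scoped ComplexConjugate
open Cfsg Subgroup
open Cfsg.Agent.Characters.Core Cfsg.Agent.H794.PP Cfsg.Agent.H29.MinExt Cfsg.Agent.H681.DegBasic
open Cfsg.Agent.SmallSimple.ThetaSetup Cfsg.Agent.SmallSimple.ThetaOrtho
open Cfsg.Agent.H348.PPD.Part Cfsg.Agent.H348.PPD.Key Cfsg.Agent.H348.PPD.Aut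

namespace Cfsg.Agent.H348.PPD.Seven

universe u

variable {S : Type u} [Group S] [Finite S]

theorem seven (hc : center S = ⊥) (hidx : (MulAut.conj : S →* MulAut S).range.index = 2)
    {p : ℕ} (hp : p.Prime) (hp2 : p ≠ 2) (hp60 : ¬ p ∣ 60) (hsq : ¬ p ^ 2 ∣ Nat.card S) {x : S} (hx : orderOf x = p)
    (K0 : Subgroup S) (f : K0 ≃* alternatingGroup (Fin 5)) (hcomm : ∀ k ∈ K0, k * x = x * k)
    (hcard : Nat.card (centralizer ({x} : Set S)) = p * 60)
    (hA : ∀ e, e ∣ p - 1 → e * 60 ≡ 2 * Nat.card S / p [MOD p] → False)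
    (hB : ∀ e, e ∣ p - 1 → e * 120 ≡ 2 * Nat.card S / p [MOD p] → e = p - 1)
    {d : ℕ} (B : BadData S d) (hd : ¬ p ∣ d) :
    (((2 * d : ℕ) : ℤ) ≡ 6 [ZMOD p] ∨ ((2 * d : ℕ) : ℤ) ≡ -6 [ZMOD p]) ∧
    ∀ m, m % 30 = 7 → m % p = 1 → ¬ ∀ s : S, (B.χ : S → ℂ) (s ^ m) = (B.χ : S → ℂ) s := by
  classical
  have : Fact p.Prime := ⟨hp⟩
  have hinj := conj_injective hc
  have hsq' : ¬ p ^ 2 ∣ Nat.card (MulAut S) := by
    rw [Crit.card_aut hc hidx]
    intro h
    refine hsq ((Nat.Coprime.dvd_of_dvd_mul_left ?_ h))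
    exact Nat.Coprime.pow_left _ ((Nat.coprime_primes hp Nat.prime_two).2 hp2)
  obtain ⟨P, K, D, hPx, hcardK, hinf⟩ := exists_dat (N := (MulAut.conj : S →* MulAut S).range) hidx hp2 hsq'
    (x := MulAut.conj x) (by rw [Crit.orderOf_conj hc, hx]) (k := 60) (by rw [Crit.card_cent hc, hcard])
  obtain ⟨e, he, hcardN, hmod⟩ := exists_e D
  rw [Crit.card_aut hc hidx] at hmod
  rcases hcardK with ⟨h1, h2⟩ | ⟨hK120, hKN⟩
  · exact (hA e he (by rw [← h1]; exact hmod)).elim
  have he1 : e = p - 1 := hB e he (by rw [← show Nat.card K = 120 from hK120]; exact hmod)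
  -- `K ⊓ N` is the image of `K0`
  have hXP : MulAut.conj x ∈ (P : Subgroup (MulAut S)) := by rw [hPx]; exact mem_zpowers _
  have hX1 : MulAut.conj x ≠ 1 := by
    intro h
    have h3 := Crit.orderOf_conj hc x
    rw [h, orderOf_one, hx] at h3
    exact hp.one_lt.ne h3
  have hmap : K0.map (MulAut.conj : S →* MulAut S) = K ⊓ (MulAut.conj : S →* MulAut S).range := by
    apply Subgroup.eq_of_le_of_card_ge
    · rintro _ ⟨y, hy, rfl⟩
      refine ⟨(D.hK _).2 ⟨?_, ?_⟩, ⟨y, rfl⟩⟩
      · rw [hPx, zpowers_eq_closure, centralizer_closure, mem_centralizer_singleton_iff, ← map_mul, hcomm y hy,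
          map_mul]
      · rw [Crit.orderOf_conj hc]
        intro h
        apply hp60
        have h3 : orderOf y ∣ 60 := by
          have h4 := Subgroup.orderOf_dvd_natCard K0 hy
          rwa [Nat.card_congr f.toEquiv, Nat.card_eq_fintype_card,
            show Fintype.card (alternatingGroup (Fin 5)) = 60 by decide +kernel] at h4
        exact h.trans h3
    · rw [hinf, ← Nat.card_congr (K0.equivMapOfInjective _ hinj).toEquiv, Nat.card_congr f.toEquiv,
        Nat.card_eq_fintype_card, show Fintype.card (alternatingGroup (Fin 5)) = 60 by decide +kernel]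
  let e2 : K0 ≃* (K ⊓ (MulAut.conj : S →* MulAut S).range : Subgroup (MulAut S)) :=
    (K0.equivMapOfInjective _ hinj).trans (MulEquiv.subgroupCongr hmap)
  have he2 : ∀ y : K0, ((e2 y : (K ⊓ (MulAut.conj : S →* MulAut S).range : Subgroup (MulAut S))) : MulAut S) =
      MulAut.conj (y : S) := fun y => rfl
  -- the character of `K`
  have hdeg : ¬ p ∣ charDegree (B.ψ : MulAut S → ℂ) := by
    rw [Crit.charDegree_psi hidx]
    intro h
    rcases hp.dvd_mul.1 h with h | h
    · exact hp2 ((Nat.prime_dvd_prime_iff_eq hp Nat.prime_two).1 h)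
    · exact hd h
  obtain ⟨θ, hθ⟩ := exists_over D.hK D.hP hdeg
  obtain ⟨hst, hvan, hsw⟩ := KFive.main hidx D (e2.symm.trans f) hKN B.zero hθ
  have hstab : Nat.card (stabAct D.hK (θ : K → ℂ)) = p - 1 := by
    have h3 := card_stabAct D.hK D.hP hst
    rw [← hcardN, he1] at h3
    exact Nat.eq_of_mul_eq_mul_right (Nat.mul_pos hp.pos Nat.card_pos) h3
  obtain ⟨a, ha, hval⟩ := value D.hK D.hP θ hstab hθ
  -- the restriction of `θ`
  let M' : Subgroup K := (MulAut.conj : S →* MulAut S).range.subgroupOf K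
  have hM'idx : M'.index = 2 := by
    obtain ⟨c, hcK, hcN⟩ := Set.not_subset.1 hKN
    rw [Subgroup.index_eq_two_iff_exists_notMem_and]
    refine ⟨⟨c, hcK⟩, fun h => hcN h, fun b => ?_⟩
    by_cases hb : (b : MulAut S) ∈ (MulAut.conj : S →* MulAut S).range
    · exact Or.inr hb
    · left
      rw [mem_subgroupOf]
      change (b : MulAut S) * c ∈ (MulAut.conj : S →* MulAut S).range
      rw [Subgroup.mul_mem_iff_of_index_two hidx]
      simp only [hb, show c ∉ (MulAut.conj : S →* MulAut S).range from hcN]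
  have hM'n : M'.Normal := Subgroup.normal_subgroupOf
  obtain ⟨η, η', hne, hη1, hsplit⟩ := IndexTwo.split_of_vanish M' hM'idx θ.2 (fun y hy => hvan y hy)
  let e1 : M' ≃* (K ⊓ (MulAut.conj : S →* MulAut S).range : Subgroup (MulAut S)) :=
    { toFun := fun y => ⟨y.1.1, y.1.2, y.2⟩
      invFun := fun z => ⟨⟨z.1, z.2.1⟩, z.2.2⟩
      left_inv := fun y => rfl
      right_inv := fun z => rfl
      map_mul' := fun y z => rfl }
  have hη3 := AltFive.degree_three (e1.trans (e2.symm.trans f)) hne hη1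
  have hθ1 : (θ : K → ℂ) 1 = 6 := by
    have h3 := hsplit 1
    rw [← hη1, hη3] at h3
    change (θ : K → ℂ) 1 = 3 + 3 at h3
    rw [h3]
    norm_num
  refine ⟨?_, ?_⟩
  · -- the congruence
    have hφ : IsCharacter P (fun y : P => (B.ψ : MulAut S → ℂ) y) :=
      isCharacter_comp (P : Subgroup (MulAut S)).subtype (isIrr_isCharacter B.ψ.2)
    have hcon : ∀ y : P, y ≠ 1 → (B.ψ : MulAut S → ℂ) y = ((a * 6 : ℤ) : ℂ) := by
      intro y hy
      have h3 := hval y y.2 (fun h => hy (Subtype.ext h)) 1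
      rw [hθ1] at h3
      simp only [Subgroup.coe_one, mul_one] at h3
      rw [h3]
      push_cast
      ring
    obtain ⟨b, hb, n, hn, hnb⟩ := int_of_const hp D.hP hφ (fun y z hy hz => by rw [hcon y hy, hcon z hz])
    have h3 := hb ⟨MulAut.conj x, hXP⟩ (fun h => hX1 (congrArg Subtype.val h))
    rw [hcon _ (fun h => hX1 (congrArg Subtype.val h))] at h3
    have h4 : a * 6 = b := by exact_mod_cast h3
    have h5 : n = 2 * d := by
      have h6 := Crit.charDegree_psi hidx B
      have h7 : (B.ψ : MulAut S → ℂ) 1 = n := hn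
      rw [charDegree, h7, Complex.natCast_re, Nat.floor_natCast] at h6
      exact h6
    rw [← h4, h5] at hnb
    rcases ha with rfl | rfl
    · left; exact hnb
    · right; exact hnb
  · intro m hm30 hmp hgal
    obtain ⟨c, hcK, hcN⟩ := Set.not_subset.1 hKN
    have hcN' : c ∉ (MulAut.conj : S →* MulAut S).range := hcN
    have hcx : c x = x := by
      apply hinj
      rw [← conj_apply_conj]
      have h3 := mem_centralizer_iff.1 (D.hK.le hcK) _ hXP
      rw [← h3]
      group
    have hxm : x ^ m = x := by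
      have h3 : x ^ m = x ^ 1 := by
        rw [pow_eq_pow_iff_modEq, hx, Nat.ModEq, hmp, Nat.mod_eq_of_lt hp.one_lt]
      rw [h3, pow_one]
    have hkey : ∀ y : K0, 2 * (B.χ : S → ℂ) (x * y) = a * (θ : K → ℂ) ⟨(e2 y : MulAut S), (e2 y).2.1⟩ := by
      intro y
      have h3 := hval (MulAut.conj x) hXP hX1 ⟨(e2 y : MulAut S), (e2 y).2.1⟩
      rw [← h3]
      change _ = (B.ψ : MulAut S → ℂ) (MulAut.conj x * MulAut.conj (y : S))
      rw [← map_mul, B.val c hcN', two_mul]
      congr 1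
      obtain ⟨w, hw, hwy⟩ := hsw c hcK hcN' (MulAut.conj (y : S)) (e2 y).2 m hm30
      obtain ⟨w0, hw0⟩ := e2.surjective ⟨w, hw⟩
      have hw0' : MulAut.conj (w0 : S) = w := by rw [← he2, hw0]
      have h4 : c (y : S) = w0 * (y : S) ^ m * (w0 : S)⁻¹ := by
        apply hinj
        rw [← conj_apply_conj, hwy, map_mul, map_mul, map_pow, map_inv, hw0']
      have h5 : c (x * y) = w0 * (x * y) ^ m * (w0 : S)⁻¹ := by
        have h6 : Commute x (y : S) := (hcomm y y.2).symm
        rw [map_mul, hcx, h4, h6.mul_pow, hxm]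
        have h7 := hcomm w0 w0.2
        calc x * (w0 * (y : S) ^ m * (w0 : S)⁻¹) = (x * w0) * (y : S) ^ m * (w0 : S)⁻¹ := by group
          _ = w0 * (x * (y : S) ^ m) * (w0 : S)⁻¹ := by rw [← h7]; group
      rw [h5]
      have h6 := isIrr_isClassFunction B.χ.2 ((x * (y : S)) ^ m) (w0 : S)
      rw [h6, hgal]
    -- inner products
    have hP0 : Fintype K0 := Fintype.ofFinite K0
    let e3 : K0 ≃* M' := e2.trans e1.symm
    have hη0 : IsIrrCharacter K0 ((η : M' → ℂ) ∘ e3) := isIrr_comp e3.toMonoidHom e3.surjective η.2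
    have hη0' : IsIrrCharacter K0 ((η' : M' → ℂ) ∘ e3) := isIrr_comp e3.toMonoidHom e3.surjective η'.2
    have hne0 : (η' : M' → ℂ) ∘ e3 ≠ (η : M' → ℂ) ∘ e3 := by
      intro h
      apply hne
      apply Subtype.ext
      funext y
      have := congrFun h (e3.symm y)
      simpa using this.symm
    have h3 : ∀ y : K0, 2 * (B.χ : S → ℂ) (x * y) = a * (((η : M' → ℂ) ∘ e3) y + ((η' : M' → ℂ) ∘ e3) y) := by
      intro y
      rw [hkey y]
      congr 1
      exact hsplit (e3 y)
    have h4 : 2 * classInner (fun y : K0 => (B.χ : S → ℂ) (x * y)) ((η : M' → ℂ) ∘ e3) = a := by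
      have h5 : 2 * classInner (fun y : K0 => (B.χ : S → ℂ) (x * y)) ((η : M' → ℂ) ∘ e3) =
          a * (classInner ((η : M' → ℂ) ∘ e3) ((η : M' → ℂ) ∘ e3) +
            classInner ((η' : M' → ℂ) ∘ e3) ((η : M' → ℂ) ∘ e3)) := by
        rw [classInner_def, classInner_def, classInner_def, ← mul_add, ← Finset.sum_add_distrib]
        have h6 : 2 * ∑ y : K0, (B.χ : S → ℂ) (x * y) * conj (((η : M' → ℂ) ∘ e3) y) =
            a * ∑ y : K0, (((η : M' → ℂ) ∘ e3) y * conj (((η : M' → ℂ) ∘ e3) y) +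
              ((η' : M' → ℂ) ∘ e3) y * conj (((η : M' → ℂ) ∘ e3) y)) := by
          rw [Finset.mul_sum, Finset.mul_sum]
          refine Finset.sum_congr rfl fun y _ => ?_
          linear_combination (conj (((η : M' → ℂ) ∘ e3) y)) * h3 y
        linear_combination (Nat.card K0 : ℂ)⁻¹ * h6
      rw [h5, classInner_irr_self hη0, classInner_irr_ne hη0' hη0 hne0]
      ring
    let φ : zpowers x × K0 →* S := (zpowers x).subtype.noncommCoprod K0.subtype (fun s t => by
      obtain ⟨s, j, rfl⟩ := s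
      exact (show Commute (x ^ j) (t : S) from (Commute.zpow_left (hcomm t t.2).symm j)))
    have h5 := isCharacter_inner (isCharacter_comp φ (isIrr_isCharacter B.χ.2)) hη0
    have h6 := Cfsg.Agent.Characters.GaloisBasic.isIntegral_apply h5 ⟨x, mem_zpowers x⟩
    refine Uniq.not_half h6 (k := a) ?_ h4
    rcases ha with rfl | rfl
    · exact odd_one
    · exact ⟨-1, by norm_num⟩

end Cfsg.Agent.H348.PPD.Seven
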