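import Cfsg.Agent.H348.PPD.Half
import Cfsg.Agent.H348.PPD.Seven
import Cfsg.Agent.H845.HNSeven
import Cfsg.Agent.NotCT.Orders
import Cfsg.Agent.S2082

/-!
# The row of `HN` (helper348)
-/

set_option autoImplicit false

open Cfsg Subgroup
open Cfsg.Agent.Characters.Core Cfsg.Agent.H794.PP Cfsg.Agent.H29.MinExt
open Cfsg.Agent.H348.PPD.Aut Cfsg.Agent.H348.PPD.Crit

namespace Cfsg.Agent.H348.PPD.RowHN

universe u

theorem not_bad_of (h19 : ∃ x : Spor.HN, orderOf x = 19 ∧ Nat.card (centralizer ({x} : Set Spor.HN)) = 19)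
    (hs : IsSimpleGroup Spor.HN) (hc : center Spor.HN = ⊥)
    (hidx : (MulAut.conj : Spor.HN →* MulAut Spor.HN).range.index = 2) (d : ℕ) (hd : IsPrimePow d)
    (B : BadData Spor.HN d) : False := by
  have hn : Nat.card Spor.HN = 273030912000000 := Cfsg.Agent.NotCT.Orders.hn ⟨MulEquiv.refl _⟩
  have hfin : Finite Spor.HN := Nat.finite_of_card_ne_zero (by rw [hn]; norm_num)
  obtain ⟨z, hz, hcz⟩ := h19
  obtain ⟨x, K, hx, ⟨f⟩, hK, hcx⟩ := Cfsg.Agent.H845.HNSeven.hn_seven
  have hm := deg_mem B hd hn [(2, 14), (3, 6), (5, 6), (7, 1), (11, 1), (19, 1)] (by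
      intro q hq
      simp only [List.mem_cons, List.not_mem_nil, or_false] at hq
      rcases hq with rfl | rfl | rfl | rfl | rfl | rfl <;> norm_num) (by simp) (by decide +kernel)
  have k1 := okOne_of hc hidx (by norm_num) (by norm_num) hn (by norm_num) hz hcz B
  have key : ∀ d ∈ ppDivs [(2, 14), (3, 6), (5, 6), (7, 1), (11, 1), (19, 1)],
      okOne 273030912000000 19 d = true → d = 9 ∨ d = 19 ∨ d = 256 ∨ d = 3125 := by
    decide +kernel
  have hdd := key d hm k1
  have h7 : ¬ 7 ∣ d := by rcases hdd with rfl | rfl | rfl | rfl <;> norm_num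
  have hsev := Seven.seven hc hidx (p := 7) (by norm_num) (by norm_num) (by norm_num) (by rw [hn]; norm_num) hx K f hK
    (by rw [hcx]) (by
      rw [hn]
      intro e he
      have h1 : e ≤ 6 := Nat.le_of_dvd (by norm_num) he
      intro h
      have h2 : (e * 60) % 7 = (2 * 273030912000000 / 7) % 7 := h
      have h3 : e ∣ 6 := he
      interval_cases e <;> revert h2 h3 <;> decide +kernel) (by
      rw [hn]
      intro e he
      have h1 : e ≤ 6 := Nat.le_of_dvd (by norm_num) he
      intro h
      have h2 : (e * 120) % 7 = (2 * 273030912000000 / 7) % 7 := h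
      have h3 : e ∣ 6 := he
      interval_cases e <;> revert h2 h3 <;> decide +kernel) B h7
  rcases hdd with rfl | rfl | rfl | rfl
  · exact Half.half hs hc (by norm_num : Nat.Prime 19) hn (by norm_num) (by norm_num) (by norm_num) (by norm_num)
      (by norm_num) B.χ.2 B.deg
  · rcases hsev.1 with h | h <;> revert h <;> decide
  · exact hsev.2 17557 (by norm_num) (by norm_num) (fun s => Uniq.galois_fixed hc hidx (by norm_num) (by norm_num)
      (by rw [hn]; norm_num) hz hcz B (by norm_num) (by rw [hn]) (by rw [hn]; norm_num) (by norm_num) s)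
  · exact hsev.2 17557 (by norm_num) (by norm_num) (fun s => Uniq.galois_fixed hc hidx (by norm_num) (by norm_num)
      (by rw [hn]; norm_num) hz hcz B (by norm_num) (by rw [hn]) (by rw [hn]; norm_num) (by norm_num) s)

end Cfsg.Agent.H348.PPD.RowHN
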