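import Cfsg.Agent.H348.PPD.Half
import Cfsg.Agent.H348.PPD.HeCent
import Cfsg.Agent.H686.CharKit
import Cfsg.Agent.H29.ElemBound
import Cfsg.Agent.H828.KillHe
import Cfsg.Agent.S2075

/-!
# The row of `He` (helper348)
-/

set_option autoImplicit false

open Cfsg Subgroup
open Cfsg.Agent.Characters.Core Cfsg.Agent.H794.PP Cfsg.Agent.H29.MinExt
open Cfsg.Agent.H348.PPD.Aut Cfsg.Agent.H348.PPD.Crit Cfsg.Agent.H348.PPD.HeCent

namespace Cfsg.Agent.H348.PPD.RowHe

universe u

/-! ### The subgroup of order 49 -/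

theorem hfin0 : Finite Spor.He :=
  Nat.finite_of_card_ne_zero (by rw [Cfsg.Agent.KFacts.He.Classes.card_he]; norm_num)

theorem exists_pow_U {a : Spor.He} (ha : a ∈ zpowers U) : ∃ i : ℕ, a = U ^ i := by
  have hfin : Finite Spor.He := hfin0
  obtain ⟨i, hi⟩ := (mem_powers_iff_mem_zpowers.2 ha)
  exact ⟨i, hi.symm⟩

theorem exists_pow_W {a : Spor.He} (ha : a ∈ zpowers W) : ∃ i : ℕ, a = W ^ i := by
  have hfin : Finite Spor.He := hfin0
  obtain ⟨i, hi⟩ := (mem_powers_iff_mem_zpowers.2 ha)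
  exact ⟨i, hi.symm⟩

noncomputable def φ : zpowers U × zpowers W →* Spor.He :=
  (zpowers U).subtype.noncommCoprod (zpowers W).subtype (fun s t => by
    obtain ⟨s, i, rfl⟩ := s
    obtain ⟨t, j, rfl⟩ := t
    exact ((show Commute U W from UW).zpow_left i).zpow_right j)

theorem φ_apply (a : zpowers U) (b : zpowers W) : φ (a, b) = a * b := rfl

theorem order_W : orderOf W = 7 := by
  have : Fact (Nat.Prime 7) := ⟨by norm_num⟩
  exact orderOf_eq_prime W_pow W_ne

theorem φ_cases (x : zpowers U × zpowers W) : x = 1 ∨ IsConj U (φ x) := by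
  obtain ⟨a, b⟩ := x
  obtain ⟨i, hi⟩ := exists_pow_U a.2
  obtain ⟨j, hj⟩ := exists_pow_W b.2
  by_cases h : i % 7 = 0 ∧ j % 7 = 0
  · left
    refine Prod.ext (Subtype.ext ?_) (Subtype.ext ?_)
    · change (a : Spor.He) = 1
      rw [hi, U_mod i, h.1, pow_zero]
    · change (b : Spor.He) = 1
      rw [hj, W_mod j, h.2, pow_zero]
  · right
    rw [φ_apply, hi, hj]
    exact conj_E h

theorem φ_injective : Function.Injective φ := by
  rw [← MonoidHom.ker_eq_bot_iff, eq_bot_iff]
  intro x hx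
  rw [MonoidHom.mem_ker] at hx
  rcases φ_cases x with h | h
  · rw [mem_bot]; exact h
  · rw [hx] at h
    exact absurd (isConj_one_left.1 h) U_ne

theorem card_E : Nat.card φ.range = 49 := by
  rw [← Nat.card_congr (MonoidHom.ofInjective φ_injective).toEquiv, Nat.card_prod, Nat.card_zpowers, Nat.card_zpowers,
    order_U, order_W]

theorem comm_E : ∀ a ∈ φ.range, ∀ b ∈ φ.range, a * b = b * a := by
  rintro _ ⟨x, rfl⟩ _ ⟨y, rfl⟩
  rw [← map_mul, ← map_mul]
  congr 1
  have h1 : ∀ s t : zpowers U, s * t = t * s := fun s t =>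
    (IsCyclic.isMulCommutative : IsMulCommutative (zpowers U)).is_comm.comm s t
  have h2 : ∀ s t : zpowers W, s * t = t * s := fun s t =>
    (IsCyclic.isMulCommutative : IsMulCommutative (zpowers W)).is_comm.comm s t
  exact Prod.ext (h1 _ _) (h2 _ _)

theorem conj_range : ∀ a ∈ φ.range, a ≠ 1 → IsConj a U := by
  rintro _ ⟨x, rfl⟩ hx
  rcases φ_cases x with h | h
  · rw [h, map_one] at hx
    exact absurd rfl hx
  · exact h.symm

/-! ### The row -/

theorem value {χ : IrrCharacter Spor.He} (hs : IsSimpleGroup Spor.He) {d : ℕ} (hd : (χ : Spor.He → ℂ) 1 = d)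
    (hd1 : d ≠ 1) : ∃ a b : ℕ, 1 ≤ b ∧ d = a + 48 * b ∧ (χ : Spor.He → ℂ) U = a - b := by
  have hfin : Finite Spor.He := hfin0
  obtain ⟨a, b, h1, h2, h3⟩ := Cfsg.Agent.H29.ElemBound.pure χ.2
    (fun x hx => Half.faithful hs χ.2 (by rw [hd]; exact_mod_cast hd1) hx) hd φ.range comm_E U_ne
    (by rw [card_E]; norm_num) conj_range
  rw [card_E] at h2
  exact ⟨a, b, h1, h2, h3⟩

theorem not_bad (hs : IsSimpleGroup Spor.He) (hc : center Spor.He = ⊥)
    (hidx : (MulAut.conj : Spor.He →* MulAut Spor.He).range.index = 2) (d : ℕ) (hd : IsPrimePow d)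
    (B : BadData Spor.He d) : False := by
  classical
  have hn : Nat.card Spor.He = 4030387200 := Cfsg.Agent.KFacts.He.Classes.card_he
  have hfin : Finite Spor.He := hfin0
  have hm := deg_mem B hd hn [(2, 10), (3, 3), (5, 2), (7, 3), (17, 1)] (by
      intro q hq
      simp only [List.mem_cons, List.not_mem_nil, or_false] at hq
      rcases hq with rfl | rfl | rfl | rfl | rfl <;> norm_num) (by simp) (by decide +kernel)
  have k1 := okOne_of hc hidx (by norm_num) (by norm_num) hn (by norm_num) Cfsg.Agent.H828.KillHe.order17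
    Cfsg.Agent.H828.KillHe.cent17 B
  have key : ∀ d ∈ ppDivs [(2, 10), (3, 3), (5, 2), (7, 3), (17, 1)],
      okOne 4030387200 17 d = true → d = 8 ∨ d = 9 ∨ d = 17 ∨ d = 25 ∨ d = 128 := by
    decide +kernel
  rcases key d hm k1 with rfl | h
  · exact Half.half hs hc (by norm_num : Nat.Prime 17) hn (by norm_num) (by norm_num) (by norm_num) (by norm_num)
      (by norm_num) B.χ.2 B.deg
  have hd1 : d ≠ 1 := by rcases h with rfl | rfl | rfl | rfl <;> norm_num
  obtain ⟨a, b, hb, hab, hval⟩ := value hs B.deg hd1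
  rcases h with rfl | rfl | rfl | rfl
  · omega
  · omega
  · omega
  obtain ⟨α, hα⟩ := exists_outer hidx
  let χ' : IrrCharacter Spor.He := ⟨(B.χ : Spor.He → ℂ) ∘ α, isIrr_comp α.toMonoidHom α.surjective B.χ.2⟩
  have hdeg' : (χ' : Spor.He → ℂ) 1 = (128 : ℕ) := by
    change (B.χ : Spor.He → ℂ) (α 1) = _
    rw [map_one, B.deg]
  obtain ⟨a', b', hb', hab', hval'⟩ := value hs hdeg' hd1
  have := finite_irr (G := Spor.He)
  have := Fintype.ofFinite (IrrCharacter Spor.He)
  let one' : IrrCharacter Spor.He := ⟨1, isIrr_one⟩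
  have e1 : χ' ≠ B.χ := fun h => B.ne α hα (congrArg Subtype.val h)
  have e2 : B.χ ≠ one' := by
    intro h
    have h1 := congrArg (fun θ : IrrCharacter Spor.He => (θ : Spor.He → ℂ) 1) h
    have h2 : (B.χ : Spor.He → ℂ) 1 = 1 := h1
    rw [B.deg] at h2
    norm_num at h2
  have e3 : χ' ≠ one' := by
    intro h
    have h1 := congrArg (fun θ : IrrCharacter Spor.He => (θ : Spor.He → ℂ) 1) h
    have h2 : (χ' : Spor.He → ℂ) 1 = 1 := h1
    rw [hdeg'] at h2
    norm_num at h2
  have hsum := Cfsg.Agent.H686.CharKit.sum_normSq (G := Spor.He) U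
  have hle := card_cent_U
  have hT : ∑ θ ∈ ({one', B.χ, χ'} : Finset (IrrCharacter Spor.He)), Complex.normSq ((θ : Spor.He → ℂ) U) ≤
      ∑ θ : IrrCharacter Spor.He, Complex.normSq ((θ : Spor.He → ℂ) U) :=
    Finset.sum_le_univ_sum_of_nonneg fun θ => Complex.normSq_nonneg _
  rw [Finset.sum_insert, Finset.sum_insert, Finset.sum_singleton, hsum] at hT
  · have h1 : Complex.normSq ((one' : Spor.He → ℂ) U) = 1 := Complex.normSq_one
    have h2 : Complex.normSq ((B.χ : Spor.He → ℂ) U) = ((a : ℝ) - b) * (a - b) := by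
      rw [hval, ← Complex.ofReal_natCast a, ← Complex.ofReal_natCast b, ← Complex.ofReal_sub, Complex.normSq_ofReal]
    have h3 : Complex.normSq ((χ' : Spor.He → ℂ) U) = ((a' : ℝ) - b') * (a' - b') := by
      rw [hval', ← Complex.ofReal_natCast a', ← Complex.ofReal_natCast b', ← Complex.ofReal_sub, Complex.normSq_ofReal]
    rw [h1, h2, h3] at hT
    have hle' : (Nat.card ↥(centralizer ({U} : Set Spor.He)) : ℝ) ≤ 1715 := by exact_mod_cast hle
    have h4 : (30 : ℝ) ≤ (a : ℝ) - b := by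
      have : 30 + b ≤ a := by omega
      have : ((30 + b : ℕ) : ℝ) ≤ a := by exact_mod_cast this
      push_cast at this
      linarith
    have h5 : (30 : ℝ) ≤ (a' : ℝ) - b' := by
      have : 30 + b' ≤ a' := by omega
      have : ((30 + b' : ℕ) : ℝ) ≤ a' := by exact_mod_cast this
      push_cast at this
      linarith
    nlinarith
  · simpa using e1.symm
  · simp only [Finset.mem_insert, Finset.mem_singleton, not_or]
    exact ⟨e2.symm, e3.symm⟩

theorem simple_of {S : Type u} [Group S] [IsSimpleGroup S] (e : S ≃* Spor.He) : IsSimpleGroup Spor.He := by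
  have : Nontrivial Spor.He := e.symm.toEquiv.nontrivial
  exact IsSimpleGroup.isSimpleGroup_of_surjective e.toMonoidHom e.surjective

theorem row {S : Type u} [Group S] [Finite S] [IsSimpleGroup S] (hna : ¬ IsMulCommutative S) (h : Spor.IsoHe S)
    (hp : HasPP S) : ExtPP S :=
  Rows.row_two Cfsg.Agent.S2075.result (not_bad (simple_of h.some)) hna h.some hp

end Cfsg.Agent.H348.PPD.RowHe
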