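import Cfsg.Agent.H348.PPD.Crit
import Cfsg.Prelude.Def_KGroupFacts

/-!
# Rows of the table of sporadic groups: characters of prime power degree which extend (helper348)

* `row_one` : groups with trivial outer automorphism group;
* `row_two` : groups with an outer automorphism group of order two without bad degrees.
-/

set_option autoImplicit false

open Cfsg Subgroup
open Cfsg.Agent.Characters.Core Cfsg.Agent.H794.PP Cfsg.Agent.H29.MinExt Cfsg.Agent.H681.DegBasic
open Cfsg.Agent.H348.PPD.Aut

namespace Cfsg.Agent.H348.PPD.Rows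

universe u v

theorem center_eq_bot {S : Type u} [Group S] [IsSimpleGroup S] (hna : ¬ IsMulCommutative S) : center S = ⊥ := by
  rcases (inferInstance : (center S).Normal).eq_bot_or_eq_top with h | h
  · exact h
  · exact absurd ⟨⟨fun a b => ((mem_center_iff.1 (h ▸ mem_top b : b ∈ center S)) a)⟩⟩ hna

theorem center_congr {S : Type u} {X : Type v} [Group S] [Group X] (e : S ≃* X) (h : center S = ⊥) :
    center X = ⊥ := by
  rw [eq_bot_iff]
  intro x hx
  have h1 : e.symm x ∈ center S := by
    rw [mem_center_iff] at hx ⊢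
    intro g
    have := congrArg e.symm (hx (e g))
    simpa using this
  rw [h, mem_bot] at h1
  rw [mem_bot]
  simpa using h1

/-- A bijective `conj`: every character extends. -/
theorem extPP_of_out_one {X : Type v} [Group X] (hc : center X = ⊥) (h : Nat.card (Cfsg.Out X) = 1)
    (hp : HasPP X) : ExtPP X := by
  obtain ⟨d, hd, hpp⟩ := hp
  obtain ⟨χ, hχ, h1⟩ := mem_charDegrees.1 hd
  have htop : (MulAut.conj : X →* MulAut X).range = ⊤ := Subgroup.index_eq_one.1 h
  have hbij : Function.Bijective (MulAut.conj : X →* MulAut X) :=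
    ⟨conj_injective hc, MonoidHom.range_eq_top.1 htop⟩
  let e : X ≃* MulAut X := MulEquiv.ofBijective MulAut.conj hbij
  have h2 : IsIrrCharacter (MulAut X) (χ ∘ e.symm) := isIrr_comp e.symm.toMonoidHom e.symm.surjective hχ
  have h3 : (fun s => (χ ∘ e.symm) (MulAut.conj s)) = χ := by
    funext s
    change χ (e.symm (e s)) = χ s
    rw [MulEquiv.symm_apply_apply]
  refine ⟨χ ∘ e.symm, isIrr_isCharacter h2, by rw [h3]; exact hχ, d, hpp, ?_⟩
  change χ (e.symm 1) = d
  rw [map_one, h1]

theorem row_one {X : Type v} [Group X] (h : Nat.card (Cfsg.Out X) = 1) {S : Type u} [Group S]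
    [IsSimpleGroup S] (hna : ¬ IsMulCommutative S) (e : S ≃* X) (hp : HasPP S) : ExtPP S :=
  ExtPP.congr e.symm (extPP_of_out_one (center_congr e (center_eq_bot hna)) h (hp.congr e))

theorem row_two {X : Type v} [Group X] (h : Nat.card (Cfsg.Out X) = 2)
    (hno : center X = ⊥ → (MulAut.conj : X →* MulAut X).range.index = 2 → ∀ d, IsPrimePow d → BadData X d → False)
    {S : Type u} [Group S] [Finite S] [IsSimpleGroup S] (hna : ¬ IsMulCommutative S) (e : S ≃* X) (hp : HasPP S) :
    ExtPP S := by
  have : Finite X := Finite.of_equiv S e.toEquiv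
  have hc := center_congr e (center_eq_bot hna)
  rcases extPP_or_bad hc h (hp.congr e) with h1 | ⟨d, hd, ⟨B⟩⟩
  · exact ExtPP.congr e.symm h1
  · exact (hno hc h d hd B).elim

end Cfsg.Agent.H348.PPD.Rows
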